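/-
The stabiliser of three points in the group of the binary code of length 24 is the projective special
linear group of degree three over the field with four elements.
-/
import Cfsg.Agent.H1.Mathieu
import Cfsg.Agent.H1.F4

set_option autoImplicit false

namespace Cfsg.Agent.H1

open Cfsg Equiv Matrix

namespace M21

/-- The number of the point labelled by a nonzero vector. -/
def labN (v : Fin 3 → F4) : ℕ :=
  ap 1358994844781323083412138438182696120421683501176465828547966982003122332483603674116765752923296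
    ((v 0).val + 4 * (v 1).val + 16 * (v 2).val)

/-- A vector labelling a given point number. -/
def vec (n : ℕ) : Fin 3 → F4 :=
  let k := [0, 0, 0, 16, 4, 1, 25, 20, 29, 9, 36, 41, 52, 53, 17, 45, 61, 33, 5, 13, 21, 37, 57,
    49].getD n 0
  ![F4.mk k, F4.mk (k / 4), F4.mk (k / 16)]

theorem forall_vec {P : (Fin 3 → F4) → Prop} (h : ∀ a b c, P ![a, b, c]) (v : Fin 3 → F4) :
    P v := by
  have : v = ![v 0, v 1, v 2] := by ext i; fin_cases i <;> rfl
  rw [this]; exact h _ _ _

theorem labN_lt (v : Fin 3 → F4) : labN v < 24 :=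
  forall_vec (P := fun v => labN v < 24) (by decide +kernel) v

theorem labN_vec : ∀ n < 24, n < 3 ∨ (vec n ≠ 0 ∧ labN (vec n) = n) := by decide +kernel

theorem labN_smul (a : F4) (ha : a ≠ 0) (v : Fin 3 → F4) : labN (a • v) = labN v :=
  forall_vec (P := fun v => ∀ a : F4, a ≠ 0 → labN (a • v) = labN v) (by decide +kernel) v a ha

theorem smul_vec_labN (v : Fin 3 → F4) : v ≠ 0 → ∃ a : F4, a ≠ 0 ∧ a • vec (labN v) = v :=
  forall_vec (P := fun v => v ≠ 0 → ∃ a : F4, a ≠ 0 ∧ a • vec (labN v) = v) (by decide +kernel) v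

theorem exists_smul_of_labN_eq {v w : Fin 3 → F4} (hv : v ≠ 0) (hw : w ≠ 0)
    (h : labN v = labN w) : ∃ a : F4, a • v = w := by
  obtain ⟨a, ha, e⟩ := smul_vec_labN v hv
  obtain ⟨b, -, e'⟩ := smul_vec_labN w hw
  refine ⟨b * a⁻¹, ?_⟩
  rw [← e', ← h]
  conv_lhs => rw [← e]
  rw [smul_smul, inv_mul_cancel_right₀ ha]

/-- The code of the permutation induced by a matrix. -/
def codeOf (A : Matrix (Fin 3) (Fin 3) F4) : ℕ :=
  mkc (fun n => bif n.blt 3 then n else labN (A *ᵥ vec n)) 24 0

/-- The permutation `g` is induced by the matrix `A`. -/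
def Rel (A : SpecialLinearGroup (Fin 3) F4) (g : fixL M24 ([2, 1, 0].map pt)) : Prop :=
  ∀ v : Fin 3 → F4, v ≠ 0 → g.1 (pt (labN v)) = pt (labN (A.1 *ᵥ v))

theorem mulVec_ne_zero (A : SpecialLinearGroup (Fin 3) F4) {v : Fin 3 → F4} (hv : v ≠ 0) :
    A.1 *ᵥ v ≠ 0 := by
  intro h
  apply hv
  have := congrArg (fun w => (A⁻¹).1 *ᵥ w) h
  have e : (A⁻¹).1 * A.1 = 1 := congrArg Subtype.val (inv_mul_cancel A)
  simpa only [mulVec_mulVec, e, one_mulVec, mulVec_zero] using this

theorem Rel.mul {A B : SpecialLinearGroup (Fin 3) F4} {g h : fixL M24 ([2, 1, 0].map pt)}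
    (hA : Rel A g) (hB : Rel B h) : Rel (A * B) (g * h) := by
  intro v hv
  rw [Subgroup.coe_mul, Perm.mul_apply, hB v hv, hA _ (mulVec_ne_zero B hv), mulVec_mulVec]
  rfl

theorem Rel.unique {A : SpecialLinearGroup (Fin 3) F4} {g h : fixL M24 ([2, 1, 0].map pt)}
    (hg : Rel A g) (hh : Rel A h) : g = h := by
  refine Subtype.ext (Equiv.ext ?_)
  rw [forall_pt]
  intro n hn
  rcases labN_vec n hn with h3 | ⟨h1, h2⟩
  · have : pt n ∈ [2, 1, 0].map pt := List.mem_map_of_mem (by simp; omega)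
    rw [g.2.2 _ this, h.2.2 _ this]
  · rw [← h2, hg _ h1, hh _ h1]

theorem rel_of_rep {A : SpecialLinearGroup (Fin 3) F4} {g : fixL M24 ([2, 1, 0].map pt)}
    (r : Rep g.1 (codeOf A.1)) : Rel A g := by
  intro v hv
  obtain ⟨a, ha, e⟩ := smul_vec_labN v hv
  have h3 : (labN v).blt 3 = false :=
    forall_vec (P := fun v => v ≠ 0 → (labN v).blt 3 = false) (by decide +kernel) v hv
  rw [r.apply_pt (labN_lt v), codeOf, ap_mkc _ _ _ _ _ (labN_lt v), Nat.zero_add, h3, cond_false]
  · conv_rhs => rw [← e, mulVec_smul, labN_smul a ha]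
  · intro i
    cases e : i.blt 3
    · exact (labN_lt _).trans (by norm_num)
    · have := Nat.blt_eq.mp e
      simp only [cond_true]; omega

theorem exists_rel_of_check (A : SpecialLinearGroup (Fin 3) F4)
    (h : (inM24 (codeOf A.1) && fixes [2, 1, 0] (codeOf A.1)) = true) : ∃ g, Rel A g := by
  rw [Bool.and_eq_true] at h
  obtain ⟨g, hg, r⟩ := (in_M24 h.1).fixL h.2
  exact ⟨⟨g, hg⟩, rel_of_rep r⟩

theorem exists_rel (A : SpecialLinearGroup (Fin 3) F4) : ∃ g, Rel A g := by
  refine SpecialLinearGroup.diagonal_transvection_induction' (fun A => ∃ g, Rel A g) A ?_ ?_ ?_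
  · intro i j hij c hc
    apply exists_rel_of_check
    rw [SpecialLinearGroup.diag2n_coe]
    revert i j c
    decide +kernel
  · intro i j hij a
    apply exists_rel_of_check
    rw [SpecialLinearGroup.transvection_coe]
    revert i j a
    decide +kernel
  · rintro A B ⟨g, hg⟩ ⟨h, hh⟩
    exact ⟨_, hg.mul hh⟩

theorem rel_one_iff (A : SpecialLinearGroup (Fin 3) F4) :
    Rel A 1 ↔ A ∈ Subgroup.center (SpecialLinearGroup (Fin 3) F4) := by
  rw [← Projectivization.SL_mulAction_ker, MonoidHom.mem_ker, Equiv.ext_iff]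
  constructor
  · intro h p
    induction p using Projectivization.ind with
    | h v hv =>
      have h1 := h v hv
      rw [OneMemClass.coe_one, Perm.one_apply, pt_inj (labN_lt _) (labN_lt _)] at h1
      simp only [MulAction.toPermHom_apply, MulAction.toPerm_apply, Projectivization.smul_mk,
        Perm.one_apply, Projectivization.mk_eq_mk_iff']
      exact exists_smul_of_labN_eq hv (mulVec_ne_zero A hv) h1
  · intro h v hv
    have h1 := h (Projectivization.mk F4 v hv)
    simp only [MulAction.toPermHom_apply, MulAction.toPerm_apply, Projectivization.smul_mk,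
      Perm.one_apply, Projectivization.mk_eq_mk_iff'] at h1
    obtain ⟨a, e⟩ := h1
    have e' : a • v = A.1 *ᵥ v := e
    have ha : a ≠ 0 := by
      rintro rfl
      exact mulVec_ne_zero A hv (by rw [← e', zero_smul])
    rw [← e', labN_smul a ha]; rfl

/-- Matrices inducing the two generators of the three-point stabiliser. -/
def genA : SpecialLinearGroup (Fin 3) F4 :=
  ⟨!![F4.mk 1, F4.mk 1, F4.mk 3; F4.mk 1, F4.mk 3, F4.mk 3; F4.mk 2, F4.mk 1, F4.mk 2], by
    rw [det_fin_three]; decide +kernel⟩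

/-- Matrices inducing the two generators of the three-point stabiliser. -/
def genB : SpecialLinearGroup (Fin 3) F4 :=
  ⟨!![F4.mk 1, F4.mk 1, F4.mk 1; F4.mk 0, F4.mk 0, F4.mk 3; F4.mk 1, F4.mk 3, F4.mk 3], by
    rw [det_fin_three]; decide +kernel⟩

theorem nonempty_equiv_F4 :
    Nonempty (fixL M24 ([2, 1, 0].map pt) ≃* ProjectiveSpecialLinearGroup (Fin 3) F4) := by
  obtain ⟨f, hf⟩ := exists_hom_of_rel Rel exists_rel (fun _ _ _ _ => Rel.mul)
    (fun _ _ _ => Rel.unique)
  have hker : f.ker = Subgroup.center _ := by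
    ext A; rw [MonoidHom.mem_ker, ← hf, rel_one_iff]
  have hsurj : Function.Surjective f := by
    have h := gen21 (H := f.range.map (Subgroup.subtype _)) fun c hc => by
      obtain ⟨g, hg, r⟩ := all_in_fixL (l := [2, 1, 0]) g21_in (by decide +kernel) c hc
      obtain ⟨A, e⟩ : ∃ A : SpecialLinearGroup (Fin 3) F4, c = codeOf A.1 := by
        have h1 : g21 = [codeOf genA.1, codeOf genB.1] := by decide +kernel
        rw [h1] at hc
        simp only [List.mem_cons, List.not_mem_nil, or_false] at hc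
        exact hc.elim (fun h => ⟨_, h⟩) fun h => ⟨_, h⟩
      exact ⟨g, ⟨⟨g, hg⟩, ⟨A, (hf _ _).mp (rel_of_rep (e ▸ r))⟩, rfl⟩, r⟩
    intro x
    obtain ⟨y, ⟨A, hA⟩, e⟩ := h x.2
    exact ⟨A, hA.trans (Subtype.ext e)⟩
  exact ⟨((QuotientGroup.quotientMulEquivOfEq hker.symm).trans
    (QuotientGroup.quotientKerEquivOfSurjective f hsurj)).symm⟩

end M21

theorem nonempty_fix3_equiv_psl (F : Type*) [Field F] [Fintype F] (hF : Fintype.card F = 4) :
    Nonempty (fixL M24 ([2, 1, 0].map pt) ≃* ProjectiveSpecialLinearGroup (Fin 3) F) :=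
  let ⟨e⟩ := M21.nonempty_equiv_F4
  ⟨e.trans (pslCongr (FiniteField.ringEquivOfCardEq (F4.card_F4.trans hF.symm)))⟩

end Cfsg.Agent.H1
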