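import Mathlib

set_option autoImplicit false
set_option linter.unusedSectionVars false

namespace Cfsg.Agent.H1.Heis

open Matrix

/-- the unitriangular group of degree three -/
@[ext] structure HS (F : Type*) where
  a : F
  b : F
  c : F

variable {F : Type*} [Field F]

instance hsMul : Mul (HS F) := ⟨fun u v => ⟨u.a + v.a, u.b + v.b, u.c + v.c + u.a * v.b⟩⟩
instance hsOne : One (HS F) := ⟨⟨0, 0, 0⟩⟩
instance hsInv : Inv (HS F) := ⟨fun u => ⟨-u.a, -u.b, u.a * u.b - u.c⟩⟩

@[simp] theorem mul_a (u v : HS F) : (u * v).a = u.a + v.a := rfl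
@[simp] theorem mul_b (u v : HS F) : (u * v).b = u.b + v.b := rfl
@[simp] theorem mul_c (u v : HS F) : (u * v).c = u.c + v.c + u.a * v.b := rfl
@[simp] theorem one_a : (1 : HS F).a = 0 := rfl
@[simp] theorem one_b : (1 : HS F).b = 0 := rfl
@[simp] theorem one_c : (1 : HS F).c = 0 := rfl
@[simp] theorem inv_a (u : HS F) : (u⁻¹).a = -u.a := rfl
@[simp] theorem inv_b (u : HS F) : (u⁻¹).b = -u.b := rfl
@[simp] theorem inv_c (u : HS F) : (u⁻¹).c = u.a * u.b - u.c := rfl

instance hsGroup : Group (HS F) :=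
  Group.ofLeftAxioms
    (fun u v w => by ext <;> simp <;> ring)
    (fun u => by ext <;> simp)
    (fun u => by ext <;> simp)

def hsEquiv : HS F ≃ F × F × F where
  toFun u := (u.a, u.b, u.c)
  invFun p := ⟨p.1, p.2.1, p.2.2⟩
  left_inv _ := rfl
  right_inv _ := rfl

instance hsFinite [Finite F] : Finite (HS F) := Finite.of_equiv _ hsEquiv.symm

theorem card_HS : Nat.card (HS F) = Nat.card F ^ 3 := by
  rw [Nat.card_congr hsEquiv, Nat.card_prod, Nat.card_prod]; ring

def um (u : HS F) : Matrix (Fin 3) (Fin 3) F := !![1, u.a, u.c; 0, 1, u.b; 0, 0, 1]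

theorem um_mul (u v : HS F) : um (u * v) = um u * um v := by
  rw [um, um, um, mul_fin_three]
  simp [add_comm, add_left_comm, add_assoc]

theorem um_one : um (1 : HS F) = 1 := by
  rw [um, one_fin_three]; simp

theorem det_um (u : HS F) : (um u).det = 1 := by
  simp [um, det_fin_three]

def toSL : HS F →* SpecialLinearGroup (Fin 3) F where
  toFun u := ⟨um u, det_um u⟩
  map_one' := Subtype.ext um_one
  map_mul' u v := Subtype.ext (um_mul u v)

def toPSL : HS F →* ProjectiveSpecialLinearGroup (Fin 3) F :=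
  (QuotientGroup.mk' (Subgroup.center (SpecialLinearGroup (Fin 3) F))).comp toSL

theorem toPSL_injective : Function.Injective (toPSL (F := F)) := by
  rw [injective_iff_map_eq_one]
  intro u hu
  have h1 : toSL u ∈ Subgroup.center (SpecialLinearGroup (Fin 3) F) :=
    (QuotientGroup.eq_one_iff _).mp hu
  obtain ⟨r, -, hr⟩ := Matrix.SpecialLinearGroup.mem_center_iff.mp h1
  change scalar (Fin 3) r = um u at hr
  ext
  · simpa [um] using (congrFun (congrFun hr 0) 1).symm
  · simpa [um] using (congrFun (congrFun hr 1) 2).symm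
  · simpa [um] using (congrFun (congrFun hr 0) 2).symm

theorem nonempty_sylow_PSL_equiv [Fintype F] {p n : ℕ} [Fact p.Prime] (hn : 1 ≤ n)
    (hF : Fintype.card F = p ^ n) (P : Sylow p (ProjectiveSpecialLinearGroup (Fin 3) F)) :
    Nonempty (P ≃* HS F) := by
  classical
  have hc : Nat.card (toPSL (F := F)).range = (p ^ n) ^ 3 := by
    rw [← Nat.card_congr (MonoidHom.ofInjective toPSL_injective).toEquiv, card_HS,
      Nat.card_eq_fintype_card, hF]
  have h1 : IsPGroup p (toPSL (F := F)).range := IsPGroup.of_card (n := n * 3) (by rw [hc, pow_mul])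
  have h2 : Nat.card (ProjectiveSpecialLinearGroup (Fin 3) F) ∣ Nat.card (GL (Fin 3) F) :=
    (Subgroup.card_quotient_dvd_card _).trans (Subgroup.card_dvd_of_injective
      (SpecialLinearGroup.toGL (n := Fin 3) (R := F)) SpecialLinearGroup.toGL_injective)
  rw [card_GL_field, hF, Fin.prod_univ_three, ← (toPSL (F := F)).range.index_mul_card, hc] at h2
  set q := p ^ n with hq
  have hq1 : 1 ≤ q := Nat.one_le_pow _ _ (Fact.out : p.Prime).pos
  have e : (q ^ 3 - q ^ ((0 : Fin 3) : ℕ)) * (q ^ 3 - q ^ ((1 : Fin 3) : ℕ)) * (q ^ 3 - q ^ ((2 : Fin 3) : ℕ)) =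
      ((q ^ 3 - 1) * (q ^ 2 - 1) * (q - 1)) * q ^ 3 := by
    have a1 : 1 ≤ q ^ 3 := Nat.one_le_pow _ _ hq1
    have a2 : 1 ≤ q ^ 2 := Nat.one_le_pow _ _ hq1
    have a3 : q ^ 1 ≤ q ^ 3 := Nat.pow_le_pow_right hq1 (by norm_num)
    have a4 : q ^ 2 ≤ q ^ 3 := Nat.pow_le_pow_right hq1 (by norm_num)
    change (q ^ 3 - q ^ 0) * (q ^ 3 - q ^ 1) * (q ^ 3 - q ^ 2) = _
    rw [pow_zero]
    zify [a1, a2, a3, a4, hq1]
    ring
  rw [e] at h2
  have h3 := Nat.dvd_of_mul_dvd_mul_right (by positivity) h2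
  have hp : p.Prime := Fact.out
  have hnd : ∀ k, 1 ≤ k → ¬ p ∣ q ^ k - 1 := by
    intro k hk h
    have h4 : p ∣ q ^ k := Dvd.dvd.pow (dvd_pow_self p (by omega)) (by omega)
    have := (Nat.dvd_sub_iff_right (Nat.one_le_pow _ _ hq1) h4).mp h
    exact hp.one_lt.ne' (Nat.dvd_one.mp this)
  have h4 : ¬ p ∣ (toPSL (F := F)).range.index := by
    intro h
    have h5 := h.trans h3
    rcases (Nat.Prime.dvd_mul hp).mp h5 with h6 | h6
    · rcases (Nat.Prime.dvd_mul hp).mp h6 with h7 | h7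
      · exact hnd 3 (by norm_num) h7
      · exact hnd 2 (by norm_num) h7
    · exact hnd 1 le_rfl (by rwa [pow_one])
  exact ⟨(Sylow.equiv P (h1.toSylow h4)).trans (MonoidHom.ofInjective toPSL_injective).symm⟩

end Cfsg.Agent.H1.Heis
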