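import Cfsg.Agent.H1.IcC

/-! Finite checks on the units of the icosians. -/

set_option autoImplicit false

namespace Cfsg.Agent.H1.Ico

def rz (x : Zt) : Zt := ⟨x.a % 2, x.b % 2⟩
def red (x : Ic) : Ic := ⟨rz x.c0, rz x.c1, rz x.c2, rz x.c3⟩

theorem red_eq {x y : Ic} (h : ev (x + y) = true) : red x = red y := by
  simp only [ev, beq_iff_eq, half, hz, Ic.add_def, Zt.add_def, Ic.mk.injEq, Zt.mk.injEq, red, rz] at h ⊢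
  omega

theorem red_neg (x : Ic) : red (-x) = red x := by
  simp only [show -x = ⟨-x.c0, -x.c1, -x.c2, -x.c3⟩ from rfl, Zt.neg_def, Ic.mk.injEq, Zt.mk.injEq, red, rz]
  omega

theorem red3 {x y z : Ic} (h : ev (x + y + z) = true) : ev (red x + red y + red z) = true := by
  simp only [ev, beq_iff_eq, half, hz, Ic.add_def, Zt.add_def, Ic.mk.injEq, Zt.mk.injEq, red, rz] at h ⊢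
  omega

def sg (u : Ic) : Ic × V := (u, red (hh * u * hh), red (cnj hh * u * cnj hh), red (cnj hh * u * hh))

def U24 : List (Ic × V) := [(m (-1) 0 0 0 0 0 0 0, m 0 1 0 0 1 0 0 0, m 1 1 0 0 1 0 0 0, m 0 0 0 0 0 0 0 0),
  (m 0 0 0 0 (-1) 0 0 0, m 1 0 0 0 1 1 0 0, m 1 0 0 0 0 1 0 0, m 0 0 0 0 0 0 0 0),
  (m 1 (-1) 2 (-1) (-1) 0 (-2) 2, m 1 1 0 0 0 1 0 0, m 0 1 0 0 1 1 0 0, m 0 1 0 1 0 0 0 0),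
  (m (-2) 1 (-3) 1 1 0 2 (-2), m 1 1 0 0 0 1 0 0, m 0 1 0 0 1 1 0 0, m 1 1 1 1 0 0 0 0),
  (m (-1) 0 (-1) 0 1 0 0 0, m 1 0 0 0 1 1 0 0, m 1 0 0 0 0 1 0 0, m 1 0 1 0 0 0 0 0),
  (m 0 0 1 0 (-1) 0 0 0, m 1 1 0 0 0 1 0 0, m 0 1 0 0 1 1 0 0, m 1 0 1 0 0 0 0 0),
  (m 1 (-1) 3 (-1) (-1) 0 (-2) 2, m 1 0 0 0 1 1 0 0, m 1 0 0 0 0 1 0 0, m 1 1 1 1 0 0 0 0),
  (m (-2) 1 (-2) 1 1 0 2 (-2), m 1 0 0 0 1 1 0 0, m 1 0 0 0 0 1 0 0, m 0 1 0 1 0 0 0 0),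
  (m (-1) 0 0 0 1 0 0 0, m 1 1 0 0 0 1 0 0, m 0 1 0 0 1 1 0 0, m 0 0 0 0 0 0 0 0),
  (m 0 0 (-1) 0 0 0 0 0, m 0 1 0 0 1 0 0 0, m 1 1 0 0 1 0 0 0, m 1 0 1 0 0 0 0 0),
  (m 2 (-1) 3 (-1) (-2) 0 (-2) 2, m 0 1 0 0 1 0 0 0, m 1 1 0 0 1 0 0 0, m 1 1 1 1 0 0 0 0),
  (m (-1) 1 (-2) 1 0 0 2 (-2), m 0 1 0 0 1 0 0 0, m 1 1 0 0 1 0 0 0, m 0 1 0 1 0 0 0 0),
  (m 1 (-1) 2 (-1) 0 0 (-2) 2, m 0 1 0 0 1 0 0 0, m 1 1 0 0 1 0 0 0, m 0 1 0 1 0 0 0 0),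
  (m (-2) 1 (-3) 1 2 0 2 (-2), m 0 1 0 0 1 0 0 0, m 1 1 0 0 1 0 0 0, m 1 1 1 1 0 0 0 0),
  (m 0 0 1 0 0 0 0 0, m 0 1 0 0 1 0 0 0, m 1 1 0 0 1 0 0 0, m 1 0 1 0 0 0 0 0),
  (m 1 0 0 0 (-1) 0 0 0, m 1 1 0 0 0 1 0 0, m 0 1 0 0 1 1 0 0, m 0 0 0 0 0 0 0 0),
  (m 2 (-1) 2 (-1) (-1) 0 (-2) 2, m 1 0 0 0 1 1 0 0, m 1 0 0 0 0 1 0 0, m 0 1 0 1 0 0 0 0),
  (m (-1) 1 (-3) 1 1 0 2 (-2), m 1 0 0 0 1 1 0 0, m 1 0 0 0 0 1 0 0, m 1 1 1 1 0 0 0 0),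
  (m 0 0 (-1) 0 1 0 0 0, m 1 1 0 0 0 1 0 0, m 0 1 0 0 1 1 0 0, m 1 0 1 0 0 0 0 0),
  (m 1 0 1 0 (-1) 0 0 0, m 1 0 0 0 1 1 0 0, m 1 0 0 0 0 1 0 0, m 1 0 1 0 0 0 0 0),
  (m 2 (-1) 3 (-1) (-1) 0 (-2) 2, m 1 1 0 0 0 1 0 0, m 0 1 0 0 1 1 0 0, m 1 1 1 1 0 0 0 0),
  (m (-1) 1 (-2) 1 1 0 2 (-2), m 1 1 0 0 0 1 0 0, m 0 1 0 0 1 1 0 0, m 0 1 0 1 0 0 0 0),
  (m 0 0 0 0 1 0 0 0, m 1 0 0 0 1 1 0 0, m 1 0 0 0 0 1 0 0, m 0 0 0 0 0 0 0 0),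
  (m 1 0 0 0 0 0 0 0, m 0 1 0 0 1 0 0 0, m 1 1 0 0 1 0 0 0, m 0 0 0 0 0 0 0 0)]

theorem U24_spec : ∀ u ∈ UL, ev (hh * u * cnj hh) = true → sg u ∈ U24 := by decide +kernel

def trip : List V := U24.flatMap fun q => (U24.filter fun p => p.2.1 == q.2.1 && p.2.2.1 == q.2.2.1).flatMap fun p =>
  (U24.filter fun r => r.2.1 == q.2.1 && r.2.2.1 == q.2.2.1 && ev (p.2.2.2 + q.2.2.2 + r.2.2.2)).map fun r => (p.1, q.1, r.1)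

theorem trip_len : trip.length = 384 := by decide +kernel

def L8 : List Ic := [m (-1) 0 0 0 0 0 0 0, m 2 (-1) 2 (-2) (-1) 1 (-3) 1, m (-1) 1 (-2) 2 0 (-1) 2 (-1), m 0 0 0 0 (-1) 0 1 0, m 0 0 0 0 1 0 (-1) 0, m 1 (-1) 2 (-2) 0 1 (-2) 1, m (-2) 1 (-2) 2 1 (-1) 3 (-1), m 1 0 0 0 0 0 0 0]

theorem L8_spec : ∀ b ∈ UL, inL (ofZ 0 0, hh, b * hh) = true → b ∈ L8 := by decide +kernel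

def L10 : List V := E2 :: E3 :: L8.map fun b => (ofZ 0 0, hh, b * hh)

theorem L10_ok : ∀ r ∈ L10, ok r = true := by decide +kernel

def ii : Ic := m 0 0 1 0 0 0 0 0
def r1 : V := (m 1 0 0 0 0 0 0 0, m (-1) 0 0 0 0 0 0 0, m (-1) 1 0 0 1 0 0 0)
def r2 : V := (m 1 0 0 0 0 0 0 0, ii, m 0 1 1 0 (-1) 0 0 0)

theorem ok12 : ok r1 = true ∧ ok r2 = true ∧ ok E1 = true ∧ ok E2 = true ∧ ok E3 = true := by decide +kernel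

theorem real_unit : ∀ u ∈ UL, ii * u = u * ii → r1.2.2 * cnj r2.2.2 * u = u * (r1.2.2 * cnj r2.2.2) →
    u = ofZ 1 0 ∨ u = -ofZ 1 0 := by decide +kernel

end Cfsg.Agent.H1.Ico
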