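import Cfsg.Agent.H1.JB4

/-! A presentation of `R`. -/

set_option autoImplicit false

namespace Cfsg.Agent.H1.JR

open Subgroup Cfsg.Agent.FT Cfsg.Agent.L0 Cfsg.Agent.H8 Cfsg.Agent.WA.GS

local instance f5 : Fact (Nat.Prime 2) := Nat.fact_prime_two

variable {G : Type*} [Group G] {z a b c d s t x y : G}

def pw (p : Bool) (x : G) : G := bif p then x else 1

theorem pw_mg (h : x * x = 1) (p q : Bool) (w : G) : pw p x * (pw q x * w) = pw (p ^^ q) x * w := by
  cases p <;> cases q <;> simp [pw, ← mul_assoc, h]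
theorem pw_cm (h : x * y = y * x) (p q : Bool) (w : G) : pw p x * (pw q y * w) = pw q y * (pw p x * w) := by
  cases p <;> cases q <;> simp [pw, ← mul_assoc, h]
theorem pw_sw (h : x * y = z * y * x) (p q : Bool) (w : G) :
    pw p x * (pw q y * w) = pw (p && q) z * (pw q y * (pw p x * w)) := by
  cases p <;> cases q <;> simp [pw, ← mul_assoc, h]
theorem pw_cj (h : s * x * s⁻¹ = y) (p : Bool) (w : G) : s * (pw p x * w) = pw p y * (s * w) := by
  cases p <;> simp [pw, ← h, mul_assoc]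
theorem cj_back (h : s * x * s⁻¹ = y) (h2 : s * s = 1) : s * y * s⁻¹ = x := by
  rw [← h, ← mul_assoc, ← mul_assoc, h2, one_mul, mul_assoc, ← mul_inv_rev, h2, inv_one, mul_one]

theorem exists_hom (hz : z * z = 1) (ha : a * a = 1) (hb : b * b = 1) (hc : c * c = 1) (hd : d * d = 1) (hs : s * s = 1)
    (ht : t * t = 1) (az : a * z = z * a) (bz : b * z = z * b) (cz : c * z = z * c) (dz : d * z = z * d) (sz : s * z * s⁻¹ = z)
    (tz : t * z * t⁻¹ = z) (ab : b * a = z * a * b) (ac : c * a = z * a * c) (ad : d * a = z * a * d) (bc : c * b = z * b * c)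
    (bd : d * b = z * b * d) (cd : d * c = z * c * d) (st : t * s = s * t) (sa : s * a * s⁻¹ = b) (sc : s * c * s⁻¹ = d)
    (ta : t * a * t⁻¹ = c) (tb : t * b * t⁻¹ = d) : ∃ φ : R →* G, φ z0 = z ∧ φ (e 0) = a ∧ φ (e 4) = a * b * c * d := by
  let F : E → G → G := fun x w => pw x.z z * (pw x.a a * (pw x.b b * (pw x.c c * (pw x.d d * w))))
  have k : ∀ {p q : Bool} {w : G}, p = q → pw p z * w = pw q z * w := fun h => h ▸ rfl
  have f1 : ∀ x y w, F x (F y w) = F (x.mul y) w := fun x y w => by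
    simp only [F, E.mul, pw_mg hz, pw_mg ha, pw_mg hb, pw_mg hc, pw_mg hd, pw_cm az, pw_cm bz, pw_cm cz, pw_cm dz, pw_sw ab,
      pw_sw ac, pw_sw ad, pw_sw bc, pw_sw bd, pw_sw cd]
    refine k ?_
    rw [fm]
    generalize x.z = z, x.b = b, x.c = c, x.d = d, y.z = z', y.a = a', y.b = b', y.c = c'
    revert z b c d z' a' b' c'
    decide
  have f2 : ∀ x w, s * F x w = F (a1 x) (s * w) := fun x w => by
    simp only [F, a1, pw_cj sz, pw_cj sa, pw_cj sc, pw_cj (cj_back sa hs), pw_cj (cj_back sc hs), pw_mg hz, pw_cm az, pw_cm bz,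
      pw_cm cz, pw_cm dz, pw_sw ab, pw_sw cd]
    refine k ?_
    generalize x.z = z, x.a = a, x.b = b, x.c = c, x.d = d
    revert z a b c d
    decide
  have f3 : ∀ x w, t * F x w = F (a2 x) (t * w) := fun x w => by
    simp only [F, a2, pw_cj tz, pw_cj ta, pw_cj tb, pw_cj (cj_back ta ht), pw_cj (cj_back tb ht), pw_mg hz, pw_cm az, pw_cm bz,
      pw_cm cz, pw_cm dz, pw_sw ac, pw_sw ad, pw_sw bc, pw_sw bd]
    refine k ?_
    generalize x.z = z, x.a = a, x.b = b, x.c = c, x.d = d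
    revert z a b c d
    decide
  have f4 : ∀ p q x w, pw p s * (pw q t * F x w) = F (act p q x) (pw p s * (pw q t * w)) := fun p q x w => by
    cases p <;> cases q <;> simp only [act, cond_true, cond_false, show ∀ g : G, pw true g = g from fun _ => rfl,
      show ∀ g : G, pw false g = 1 from fun _ => rfl, one_mul, f2, f3]
  have f5 : ∀ x w v, F x w * v = F x (w * v) := fun x w v => by simp only [F, mul_assoc]
  refine ⟨MonoidHom.mk' (fun u => F u.e (pw u.p s * (pw u.q t * 1))) fun u v => ?_, ?_, ?_, ?_⟩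
  · rw [f5, mul_assoc, mul_assoc, one_mul, f4, f1, pw_cm st, pw_mg hs, pw_mg ht]
    rfl
  all_goals simp [F, pw, z0, e, mul_assoc]

theorem em_of [Finite G] {φ : R →* G} (h : φ z0 = z) (h1 : z ≠ 1) : Em φ z := ⟨(MonoidHom.ker_eq_bot_iff φ).mp (by
  by_contra e
  have p : IsPGroup 2 (⊤ : Subgroup R) := IsPGroup.of_card (n := 7) (card_top.trans card_R)
  obtain ⟨w, hw, w1⟩ := exists_mem_ne_one (H4.inf_centralizer_ne_bot_of_isPGroup (p.to_le le_top) p le_normalizer_of_normal e)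
  exact h1 (by rw [← h, ← (cent w fun g => mem_centralizer_iff.mp hw.2 g trivial).resolve_left w1]; exact hw.1)), h⟩

theorem Em.cen [Finite G] {φ : R →* G} (m : Em φ z) (hx : x ∈ φ.range) (h1 : x ≠ 1) (hc : ∀ y ∈ φ.range, y * x = x * y) :
    x = z := by
  obtain ⟨x, rfl⟩ := hx
  exact (m.iz.mpr (cent x fun g => m.inj (by rw [map_mul, map_mul, hc _ ⟨g, rfl⟩]))).resolve_left h1

theorem Em.syl_top [Finite G] {φ : R →* G} (m : Em φ z) (hS : IsSylowIn 2 φ.range 𝐂[z]) : IsSylowIn 2 φ.range ⊤ :=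
  IsSylowIn.of_normalizer le_top ⟨le_inf le_top le_normalizer, hS.pgroup, fun Q hQ => hS.max Q fun g hg => by
    have n := (hQ hg).2
    have zT : z ∈ φ.range := ⟨_, m.hz⟩
    refine mem_centralizer_singleton_iff.mpr (mul_inv_eq_iff_eq_mul.mp (m.cen (conj_mem_of_le_normalizer le_rfl n zT)
      (fun e => m.z1 (by simpa using e)) fun y hy => ?_))
    have := mem_centralizer_singleton_iff.mp (hS.le (conj_mem_of_le_normalizer le_rfl (inv_mem n) hy))
    rw [show y = g * (g⁻¹ * y * g⁻¹⁻¹) * g⁻¹ by group, conj_mul, conj_mul, this]⟩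

end Cfsg.Agent.H1.JR
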