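import Cfsg.Agent.H1.IcF
import Cfsg.Agent.H1.JB5

/-! The Sylow `2`-subgroup and the centralizer of a `2`-central involution of `J₂`. -/

set_option autoImplicit false

namespace Cfsg.Agent.H1.Ico

open Cfsg.Spor Quaternion Subgroup Cfsg.Agent.FT Cfsg.Agent.L0 Cfsg.Agent.H8 Cfsg.Agent.H1.JR

local instance fG : Fact (Nat.Prime 2) := Nat.fact_prime_two

variable {g : twoJ2} {M : W →ₗ[ℍ[ℝ]] W} {v w : Wd}

noncomputable def wd (w : Wd) : twoJ2 := (w.map fun i => rho (vec i)).prod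

theorem run_spec (w : Wd) : ∃ M, Lin (wd w) M ∧ ∀ x, vv x ∈ icoLeech → M (vv x) = vv (run w x) := by
  induction w with
  | nil => exact ⟨_, lin_one, fun _ _ => rfl⟩
  | cons i w ih =>
    obtain ⟨M, h, e⟩ := ih
    refine ⟨_, (lin_rho (okv i)).mul h, fun x hx => ?_⟩
    obtain ⟨c, e1⟩ := ((ok_spec (okv i)).2.2 _ (e x hx ▸ h.mem hx)).1
    rw [LinearMap.comp_apply, e x hx]
    exact (vv_rf (ev_iff.mpr ⟨c, (val_dot ..).trans e1⟩)).symm

theorem r3_iff {N : W →ₗ[ℍ[ℝ]] W} (h : ∀ x, vv x ∈ icoLeech → M (vv x) = vv (run v x))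
    (h' : ∀ x, vv x ∈ icoLeech → N (vv x) = vv (run w x)) : (M = N ↔ r3 v = r3 w) ∧ (M = -N ↔ r3 v = -r3 w) := by
  simp only [r3, Prod.neg_mk, Prod.mk.injEq]
  refine ⟨⟨fun e => ?_, fun e => lin_ext ?_ ?_ ?_⟩, fun e => ?_, fun e => lin_ext ?_ ?_ ?_⟩
  · refine ⟨vv_inj ?_, vv_inj ?_, vv_inj ?_⟩ <;> simp only [← h, ← h', mE, e]
  any_goals simp only [h, h', mE, e, LinearMap.neg_apply, vv_neg]
  refine ⟨vv_inj ?_, vv_inj ?_, vv_inj ?_⟩ <;> simp only [← h, ← h', mE, e, vv_neg, LinearMap.neg_apply]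

noncomputable def ng : twoJ2 := wd [0, 1, 2]

theorem lin_ng : Lin ng (-LinearMap.id) := by
  obtain ⟨M, h, e⟩ := run_spec [0, 1, 2]
  exact (r3_iff (N := LinearMap.id) (w := []) e fun _ _ => rfl).2.mpr d_e4.2 ▸ h

theorem Lin.neg (h : Lin g M) : Lin (ng * g) (-M) := by simpa using lin_ng.mul h

theorem ng_c : ng ∈ center twoJ2 := mem_center_iff.mpr fun g => by
  obtain ⟨M, h⟩ := exists_lin g
  exact (h.mul lin_ng).eq (by simpa using h.neg)

noncomputable def pr : twoJ2 →* J2 := QuotientGroup.mk' _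
noncomputable def J (w : Wd) : J2 := pr (wd w)

theorem pr_eq {g g' : twoJ2} {N : W →ₗ[ℍ[ℝ]] W} (h : Lin g M) (h' : Lin g' N) : pr g = pr g' ↔ M = N ∨ M = -N := by
  refine ⟨fun e => ?_, fun e => e.elim (fun e => congrArg pr (h.eq (e ▸ h'))) fun e => ?_⟩
  · obtain ⟨c, hc, rfl⟩ := (QuotientGroup.mk'_eq_mk' _).mp e.symm
    obtain ⟨K, k⟩ := exists_lin c
    exact (center_pm k hc).imp (fun e => by simpa [e] using h.uniq (h'.mul k)) fun e => by simpa [e] using h.uniq (h'.mul k)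
  · rw [h.eq (e ▸ h'.neg), map_mul, show pr ng = 1 from (QuotientGroup.eq_one_iff _).mpr ng_c, one_mul]

theorem J_eq : J v = J w ↔ r3 v = r3 w ∨ r3 v = -r3 w := by
  obtain ⟨M, h, e⟩ := run_spec v
  obtain ⟨N, h', e'⟩ := run_spec w
  exact (pr_eq h h').trans (or_congr (r3_iff e e').1 (r3_iff e e').2)

theorem J_app (v w : Wd) : J (v ++ w) = J v * J w := by simp [J, wd]
theorem J_nil : J [] = 1 := map_one pr

theorem J_sq (i : Fin 13) : J [i] * J [i] = 1 := by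
  have := lin_rho (okv i)
  rw [J, ← map_mul, wd, List.map_singleton, List.prod_singleton, (this.mul this).eq (M := _) (by
    rw [show RL (vec i |> vv) ∘ₗ RL (vec i |> vv) = LinearMap.id from LinearMap.ext (refl_refl (ok_spec (okv i)).2.1)]
    exact lin_one), map_one]

theorem J_cj {i j : Fin 13} {u : Ic} (h : run w (vec i) = sm u (vec j) ∧ nq u = ⟨1, 0⟩) : J w * J [i] * (J w)⁻¹ = J [j] := by
  obtain ⟨M, k, e⟩ := run_spec w
  simpa [J, wd] using congrArg pr (k.conj (okv i) (okv j) (star_unit h.2) (by rw [e _ (ok_spec (okv i)).1, h.1, vv_sm]))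

theorem card_C : #|𝐂[J [0]]| ≤ 1920 := by
  have h1 := L0.card_eq_card_inf_ker_mul_card_map pr 𝐂[rho E1]
  have h2 : 1 < #|(𝐂[rho E1] ⊓ pr.ker : Subgroup twoJ2)| := (one_lt_card_iff_ne_bot _).mpr fun e => by
    have : ng = 1 := mem_bot.mp (e ▸ mem_inf.mpr ⟨mem_centralizer_singleton_iff.mpr (mem_center_iff.mp ng_c _).symm,
      (QuotientGroup.eq_one_iff _).mpr ng_c⟩)
    exact absurd ((r3_iff (v := []) (w := []) (fun _ _ => rfl) fun _ _ => rfl).2.mp (lin_one.uniq (this ▸ lin_ng))) (by decide)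
  have h3 : 𝐂[J [0]] ≤ map pr 𝐂[rho E1] := fun x hx => by
    obtain ⟨g, rfl⟩ := QuotientGroup.mk'_surjective _ x
    obtain ⟨M, h⟩ := exists_lin g
    have r := lin_rho ok12.2.2.1
    refine mem_map_of_mem pr (mem_centralizer_singleton_iff.mpr ((h.mul r).eq (((pr_eq (h.mul r) (r.mul h)).mp (by
      rw [map_mul, map_mul, show pr (rho E1) = J [0] by simp [J, wd, vec]]
      exact mem_centralizer_singleton_iff.mp hx)).resolve_right (fun e => ?_) ▸ r.mul h)))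
    have k : ∀ x, RL (vv E1) x = x → M x 1 = 0 ∧ M x 2 = 0 := fun x hx => by
      have := LinearMap.congr_fun e x
      rw [LinearMap.comp_apply, hx, LinearMap.neg_apply, LinearMap.comp_apply, RL1] at this
      exact ⟨z0 (congrFun this 1).symm, z0 (congrFun this 2).symm⟩
    have a := k _ fixE.2.1
    have b := k _ fixE.2.2.1
    have c := h.2 (vv E2) (vv E3)
    have a' := (h.2 _ _).trans nE.2.1
    have b' := (h.2 _ _).trans nE.2.2
    rw [show qip (vv E2) (vv E3) = 0 by simp [qip, Fin.sum_univ_three, vv, E2, E3, val_0]] at c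
    simp only [qip, Fin.sum_univ_three, a, b, zero_mul, add_zero, mul_eq_zero, star_eq_zero] at c a' b'
    have : (4 : ℍ[ℝ]) ≠ 0 := by rw [← val_4, ← val_0]; exact fun e => absurd (val_inj e) (by decide)
    rcases c with c | c
    · exact this (by rw [← a', c, zero_mul])
    · exact this (by rw [← b', c, zero_mul])
  have := card_le_of_le h3
  have := card_cent
  nlinarith

theorem main : ∃ φ : R →* J2, Em φ (J [0]) ∧ IsSylowIn 2 φ.range 𝐂[J [0]] ∧ #|𝐂[J [0]]| = 1920 ∧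
    ∃ g ∈ 𝐂[J [0]], Rl φ (J [0]) g 0 4 := by
  have c := d_cj
  have s := d_sw
  have n := d_n
  simp only [List.forall_mem_cons] at c s n
  obtain ⟨c1, c2, c3, c4, c5, c6, c7, c8, c9, c10, c11, c12, c13, -⟩ := c
  have k : ∀ {i j}, r3 [j, i] = -r3 [0, i, j] → J [j] * J [i] = J [0] * J [i] * J [j] := fun h => by
    simp only [← J_app]; exact J_eq.mpr (Or.inr h)
  have k1 : ∀ {w}, r3 w = -r3 [] → J w = 1 := fun h => (J_eq.mpr (Or.inr h)).trans J_nil
  have k2 : ∀ {w}, r3 w ≠ r3 [] ∧ r3 w ≠ -r3 [] → J w ≠ 1 := fun h e => (J_eq.mp (e.trans J_nil.symm)).elim h.1 h.2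
  obtain ⟨φ, e1, e2, e3⟩ := exists_hom (J_sq 0) (J_sq 3) (J_sq 4) (J_sq 5) (J_sq 6) ((J_app ..).symm.trans (k1 d_s.1))
    ((J_app ..).symm.trans (k1 d_s.2.1)) (mul_inv_eq_iff_eq_mul.mp (J_cj c1)) (mul_inv_eq_iff_eq_mul.mp (J_cj c2))
    (mul_inv_eq_iff_eq_mul.mp (J_cj c3)) (mul_inv_eq_iff_eq_mul.mp (J_cj c4)) (J_cj c5) (J_cj c6) (k s.1) (k s.2.1) (k s.2.2.1)
    (k s.2.2.2.1) (k s.2.2.2.2.1) (k s.2.2.2.2.2.1) (by simp only [← J_app]; exact J_eq.mpr (Or.inr d_s.2.2))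
    (J_cj c9) (J_cj c10) (J_cj c11) (J_cj c12)
  have m := em_of e1 (k2 n.1)
  have l : φ.range ≤ 𝐂[J [0]] := by
    rintro _ ⟨x, rfl⟩
    exact mem_centralizer_singleton_iff.mpr (by rw [← e1, ← map_mul, z0_spec.2.2.2.2.2.2.2, map_mul])
  have cT : #|φ.range| = 128 := by rw [MonoidHom.range_eq_map, m.card, card_top, card_R]
  have mc := mem_centralizer_singleton_iff.mpr (mul_inv_eq_iff_eq_mul.mp (J_cj c8))
  have d3 := orderOf_dvd_natCard _ (mem_centralizer_singleton_iff.mpr (mul_inv_eq_iff_eq_mul.mp (J_cj c7)))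
  have d5 := orderOf_dvd_natCard _ mc
  haveI : Fact (Nat.Prime 5) := ⟨Nat.prime_five⟩
  rw [orderOf_eq_prime (p := 3) (by simpa only [J_app, pow_succ, pow_zero, one_mul] using k1 d_a.1) (k2 n.2.1)] at d3
  rw [orderOf_eq_prime (p := 5) (by simpa only [J_app, pow_succ, pow_zero, one_mul] using k1 d_a.2) (k2 n.2.2.1)] at d5
  have d7 := cT ▸ card_dvd_of_le l
  have := card_C
  have : 0 < #|𝐂[J [0]]| := Nat.card_pos
  have cC : #|𝐂[J [0]]| = 1920 := by omega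
  refine ⟨φ, m, .of_not_dvd_relIndex l (.of_card (n := 7) cT) ?_, cC, _, mc, Or.inl ?_⟩
  · have := relIndex_mul_card_of_le l
    rw [cT, cC] at this
    omega
  · rw [e2, e3, J_cj c13]
    simp only [← J_app]
    exact (J_eq.mpr (Or.inl d_e4.1)).symm

end Cfsg.Agent.H1.Ico
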