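import Cfsg.Agent.H1.M24Q
import Cfsg.Agent.WA.GMain
import Cfsg.Agent.WA.GM3a
import Cfsg.Agent.H4.Quadratic

/-! Groups whose `2`-subgroups embed in `T`: the subgroup of order 64 is strongly closed. -/

set_option autoImplicit false
set_option linter.unusedSectionVars false

namespace Cfsg.Agent.H1.MQ

open Subgroup Cfsg.Agent.S3171 Cfsg.Agent.FT Cfsg.Agent.L0 Cfsg.Agent.H8 Cfsg.Agent.WA.GS
open scoped commutatorElement

local instance f2 : Fact (Nat.Prime 2) := Nat.fact_prime_two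

variable {G : Type*} [Group G] [Finite G] {A A' B E F P W X Y : Subgroup G} {a b f s t w x y : G}

theorem cmem (hy : y ∈ 𝐍(F)) (hf : f ∈ F) : ⁅y, f⁆ ∈ F := mul_mem (conj_mem_of_le_normalizer le_rfl hy hf) (inv_mem hf)

theorem cmem' (hy : y ∈ 𝐍(F)) (hf : f ∈ F) : ⁅f, y⁆ ∈ F := commutatorElement_inv y f ▸ inv_mem (cmem hy hf)

theorem cone (hF : ∀ f ∈ F, f * f = 1) (ha : a ∈ F) (hb : b ∈ F) : ⁅a, b⁆ = 1 :=
  commutatorElement_eq_one_iff_mul_comm.mpr (comm_of_sq hF ha hb)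

theorem cmul (hF : ∀ f ∈ F, f * f = 1) (hy : y ∈ 𝐍(F)) (ha : a ∈ F) (hb : b ∈ F) : ⁅y, a * b⁆ = ⁅y, a⁆ * ⁅y, b⁆ := by
  rw [show ⁅y, a * b⁆ = ⁅y, a⁆ * (a * ⁅y, b⁆ * a⁻¹) by group, comm_of_sq hF ha (cmem hy hb), mul_inv_cancel_right]

theorem csq (hF : ∀ f ∈ F, f * f = 1) (hy : y ∈ 𝐍(F)) (hf : f ∈ F) : ⁅y * y, f⁆ = ⁅y, ⁅y, f⁆⁆ := by
  rw [show ⁅y * y, f⁆ = ⁅y, ⁅y, f⁆⁆ * (⁅y, f⁆ * ⁅y, f⁆) by group, hF _ (cmem hy hf), mul_one]

theorem ccj {c : G} (hc : c ∈ 𝐂(F)) (hy : y ∈ 𝐍(F)) (hf : f ∈ F) : ⁅c * y, f⁆ = ⁅y, f⁆ := by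
  rw [show ⁅c * y, f⁆ = c * ⁅y, f⁆ * c⁻¹ * (c * f * c⁻¹ * f⁻¹) by group, ← mem_centralizer_iff.mp hc _ (cmem hy hf),
    ← mem_centralizer_iff.mp hc _ hf]
  group

theorem norm_of (h : ∀ f ∈ F, ⁅x, f⁆ ∈ F) : x ∈ 𝐍(F) := H5.mem_normalizer_of_conj_mem fun f hf => by
  simpa only [commutatorElement_def, inv_mul_cancel_right] using mul_mem (h f hf) hf

theorem cent_of (h : ∀ f ∈ F, ⁅x, f⁆ = 1) : x ∈ 𝐂(F) :=
  mem_centralizer_iff.mpr fun f hf => (commutatorElement_eq_one_iff_mul_comm.mp (h f hf)).symm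

theorem of_cent (h : x ∈ 𝐂(F)) (hf : f ∈ F) : ⁅x, f⁆ = 1 :=
  commutatorElement_eq_one_iff_mul_comm.mpr (mem_centralizer_iff.mp h f hf).symm

theorem two_idx (hle : B ≤ F) (hc : #|F| = #|B| * 2) (hx : x ∈ F) (hy : y ∈ F) (x1 : x ∉ B) (y1 : y ∉ B) : x * y ∈ B :=
  (mul_mem_iff_of_index_two (H := B.subgroupOf F) (Nat.eq_of_mul_eq_mul_left Nat.card_pos
    ((H5.card_mul_relIndex_of_le hle).trans hc)) (a := ⟨x, hx⟩) (b := ⟨y, hy⟩)).mpr (iff_of_false x1 y1)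

theorem ext2 (hB : ∀ b ∈ B, b * b = 1) (ht : t * t = 1) (hc : t ∈ 𝐂(B)) (t1 : t ∉ B) :
    (∀ f ∈ B ⊔ zpowers t, f * f = 1) ∧ #|(B ⊔ zpowers t : Subgroup G)| = #|B| * 2 := by
  refine ⟨fun f hf => ?_, H5.card_sup_zpowers (centralizer_le_normalizer _ hc) t1 (by rw [pow_two, ht]; exact one_mem _)⟩
  obtain ⟨b, hb, k, rfl⟩ := (H5.mem_sup_zpowers (centralizer_le_normalizer _ hc)).mp hf
  have c : Commute b t := mem_centralizer_iff.mp hc b hb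
  rw [← pow_two, (c.zpow_right k).mul_pow, pow_two, hB b hb, one_mul, ← zpow_natCast, ← zpow_mul, mul_comm, zpow_mul,
    zpow_natCast, pow_two, ht, one_zpow]

/-- the stabilizer of the chain `F ≥ B ≥ W ≥ 1` -/
def St (F B W : Subgroup G) : Subgroup G := 𝐍(F) ⊓ cmod B F ⊓ cmod W B ⊓ 𝐂(W)

theorem mem_St (h1 : W ≤ B) (h2 : B ≤ F) (e1 : ∀ f ∈ F, ⁅x, f⁆ ∈ B) (e2 : ∀ f ∈ B, ⁅x, f⁆ ∈ W) (e3 : ∀ f ∈ W, ⁅x, f⁆ = 1) :
    x ∈ St F B W :=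
  ⟨⟨⟨norm_of fun f hf => h2 (e1 f hf), norm_of fun f hf => h1 (e2 f hf), e1⟩,
    norm_of fun f hf => e3 f hf ▸ one_mem _, e2⟩, cent_of e3⟩

theorem St_le (hF : ∀ f ∈ F, f * f = 1) (hP : IsSylowIn 2 P (St F B W)) (hx : x ∈ St F B W) :
    ∃ c ∈ 𝐂(F), ∃ p ∈ P, c * p = x := by
  have := H4.le_sup_of_isSylowIn_of_pow_mem (K := 𝐂(F)) hP (fun y hy => H8.normalizer_le_normalizer_centralizer _ hy.1.1.1)
    (fun y hy => ⟨2, cent_of fun f hf => by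
      rw [show y ^ 2 ^ 2 = y * y * (y * y) by rw [← pow_two, ← pow_two, ← pow_mul]; rfl, csq hF (mul_mem hy.1.1.1 hy.1.1.1) hf]
      exact of_cent (mul_mem hy.2 hy.2) (csq hF hy.1.1.1 hf ▸ hy.1.2.2 _ (hy.1.1.2.2 f hf))⟩) hx
  exact (H8.mem_sup_of_le_normalizer fun y hy => H8.normalizer_le_normalizer_centralizer _ (hP.le hy).1.1.1).mp
    ((sup_le le_sup_right (inf_le_right.trans le_sup_left) : _ ≤ 𝐂(F) ⊔ P) this)

theorem St_cj (hF : ∀ f ∈ F, f * f = 1) (hP : IsSylowIn 2 P (St F B W)) (hX : IsPGroup 2 X) (hle : X ≤ St F B W) :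
    ∃ c ∈ 𝐂(F), cj c X ≤ P := by
  obtain ⟨g, hg, e⟩ := B07.exists_cj_le_sylow hP hX hle
  obtain ⟨c, hc, p, hp, rfl⟩ := St_le hF hP hg
  refine ⟨p⁻¹ * c * p⁻¹⁻¹, conj_mem_of_le_normalizer (H8.normalizer_le_normalizer_centralizer _)
    (inv_mem (hP.le hp).1.1.1) hc, ?_⟩
  rw [inv_inv, mul_assoc, cj_mul]
  exact (cj_mono _ e).trans (cj_eq_self_iff.mpr (le_normalizer (inv_mem hp))).le

def Hy (G : Type*) [Group G] : Prop :=
  ∀ P : Subgroup G, IsPGroup 2 P → ∃ φ : T →* G, Function.Injective φ ∧ P ≤ φ.range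

structure El (A : Subgroup G) : Prop where
  sq : ∀ a ∈ A, a * a = 1
  card : #|A| = 64

theorem El.pg (h : El A) : IsPGroup 2 A := IsPGroup.of_card (n := 6) h.card

theorem El.cj (h : El A) (g : G) : El (cj g A) :=
  ⟨fun a ha => by simpa [mul_assoc] using congrArg (g * · * g⁻¹) (h.sq _ (mem_cj.mp ha)), (card_cj g A).trans h.card⟩

theorem El.eq (h : El A) {φ : T →* G} (hφ : Function.Injective φ) (hle : A ≤ φ.range) : pD.ker.map φ = A := by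
  rw [← part3 (A.comap φ) ⟨⟨fun a b => Subtype.ext (hφ (by
    simpa only [coe_mul, map_mul] using comm_of_sq h.sq a.2 b.2))⟩⟩ (by
      rw [← card_map_of_injective hφ, map_comap_eq_self hle, h.card]), map_comap_eq_self hle]

namespace Hy
variable (h : Hy G) (hA : El A) (hP : IsPGroup 2 P) (hle : A ≤ P)
include h hA hP hle

theorem uq (hB : El B) (h2 : B ≤ P) : B = A := by
  obtain ⟨φ, i, e⟩ := h P hP
  rw [← hA.eq i (hle.trans e), hB.eq i (h2.trans e)]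

theorem norm : P ≤ 𝐍(A) := fun x hx =>
  cj_eq_self_iff.mp (h.uq hA hP hle (hA.cj x) ((cj_mono _ hle).trans (cj_eq_self_iff.mpr (le_normalizer hx)).le))

theorem c16 (ht : t ∈ P) (t1 : t ∉ A) (t2 : t * t = 1) : #|(A ⊓ 𝐂[t] : Subgroup G)| = 16 := by
  obtain ⟨φ, i, e⟩ := h P hP
  obtain rfl := hA.eq i (hle.trans e)
  obtain ⟨s, rfl⟩ := e ht
  rw [← MQ.c16 (s := s) (fun e => t1 (mem_map_of_mem φ e)) (i (by rw [map_mul, t2, map_one])),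
    ← card_map_of_injective i]
  congr 2
  refine le_antisymm ?_ ?_
  · rintro _ ⟨⟨a, ha, rfl⟩, hc⟩
    exact mem_map_of_mem φ ⟨ha, mem_centralizer_singleton_iff.mpr (i (by
      simpa only [map_mul] using mem_centralizer_singleton_iff.mp hc))⟩
  · rintro _ ⟨a, ha, rfl⟩
    exact ⟨mem_map_of_mem φ ha.1, mem_centralizer_singleton_iff.mpr (by
      rw [← map_mul, mem_centralizer_singleton_iff.mp ha.2, map_mul])⟩

theorem cent (ht : t ∈ P) (hc : t ∈ 𝐂(A)) : t ∈ A := by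
  obtain ⟨φ, i, e⟩ := h P hP
  obtain rfl := hA.eq i (hle.trans e)
  obtain ⟨s, rfl⟩ := e ht
  exact mem_map_of_mem φ (MQ.cent fun a ha => i (by
    rw [map_commutatorElement, of_cent hc (mem_map_of_mem φ ha), map_one]))

theorem quad (hx : x ∈ P) (hy : y ∈ P) (x2 : x * x = 1) (y2 : y * y = 1) (c : x * y = y * x) (ha : a ∈ A) :
    ⁅y, ⁅x, a⁆⁆ = 1 := by
  obtain ⟨φ, i, e⟩ := h P hP
  obtain rfl := hA.eq i (hle.trans e)
  obtain ⟨x, rfl⟩ := e hx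
  obtain ⟨y, rfl⟩ := e hy
  obtain ⟨a, ha, rfl⟩ := ha
  rw [← map_commutatorElement, ← map_commutatorElement, MQ.quad (i (by rw [map_mul, x2, map_one]))
    (i (by rw [map_mul, y2, map_one])) (i (by rw [map_mul, c, map_mul])) ha, map_one]

theorem nE (hE : E ≤ P) (sq : ∀ e ∈ E, e * e = 1) (hc : #|E| = 32) : A ≤ 𝐍(E) := fun a ha => norm_of fun e he => by
  rw [← commutatorElement_inv, inv_mem_iff]
  by_contra e1
  have m := cmem (h.norm hA hP hle (hE he)) ha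
  obtain ⟨h1, h2⟩ := ext2 sq (hA.sq _ m) (mem_centralizer_iff.mpr fun y hy => commutatorElement_eq_one_iff_mul_comm.mp
    (h.quad hA hP hle (hE he) (hE hy) (sq e he) (sq y hy) (comm_of_sq sq he hy) ha)) e1
  have := h.uq hA hP hle ⟨h1, by rw [h2, hc]⟩ (sup_le hE (zpowers_le.mpr (hle m)))
  exact e1 (cone hA.sq (this.le (mem_sup_left he)) ha ▸ one_mem _)

end Hy

theorem pg2 (hA : IsPGroup 2 A) (ht : t ∈ 𝐍(A)) (h : IsPGroup 2 (zpowers t)) : IsPGroup 2 (A ⊔ zpowers t : Subgroup G) :=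
  hA.to_sup_of_normal_left' h (zpowers_le.mpr ht)

/-- two subgroups of order 64 normalizing `F` -/
theorem Hy.two (h : Hy G) (hA : El A) (hA' : El A') (sq : ∀ f ∈ F, f * f = 1) (n : A ≤ 𝐍(F)) (n' : A' ≤ 𝐍(F))
    (m : F ≤ 𝐍(A)) (m' : F ≤ 𝐍(A')) (c : #|F| = #|(A ⊓ F : Subgroup G)| * 2) (c' : #|F| = #|(A' ⊓ F : Subgroup G)| * 2)
    (ht : t ∈ A' ⊓ F) (t1 : t ∉ A) : False := by
  obtain ⟨s, hs, s1⟩ : ∃ s ∈ A ⊓ F, s ∉ A' := by
    by_contra e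
    push Not at e
    exact t1 ((eq_of_le_of_card (le_inf e inf_le_right : A ⊓ F ≤ A' ⊓ F) (by omega)).ge ht).1
  have k : ∀ {A : Subgroup G} {s y f : G}, El A → A ≤ 𝐍(F) → #|F| = #|(A ⊓ F : Subgroup G)| * 2 → s ∈ F → s ∉ A → y ∈ A →
      f ∈ F → (f ∈ A ∧ ⁅y, f⁆ = 1) ∨ ⁅y, f⁆ = ⁅y, s⁆ := fun {A s y f} hA n c hs s1 hy hf =>
    (em (f ∈ A)).imp (fun e => ⟨e, cone hA.sq hy e⟩) fun e => by
      rw [show f = s * (s * f) by rw [← mul_assoc, sq s hs, one_mul], cmul sq (n hy) hs (mul_mem hs hf),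
        cone hA.sq hy (two_idx inf_le_right c hs hf (fun e => s1 e.1) fun e' => e e'.1).1, mul_one]
  obtain ⟨α, hα, α1, α2⟩ : ∃ α ∈ A', ⁅s, α⁆ ≠ 1 ∧ ⁅s, α⁆ ∈ A := by
    have c1 := h.c16 hA' (pg2 hA'.pg (m' hs.2) (pg_zp (sq s hs.2))) le_sup_left (mem_sup_right (mem_zpowers s)) s1 (sq s hs.2)
    have c2 := hA'.card
    have d : ∀ a ∈ A', a ∉ A' ⊓ 𝐂[s] → ⁅s, a⁆ ≠ 1 := fun a ha e e' =>
      e ⟨ha, mem_centralizer_singleton_iff.mpr (commutatorElement_eq_one_iff_mul_comm.mp e').symm⟩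
    obtain ⟨a, ha, a1⟩ := SetLike.exists_of_lt (lt_of_le_of_ne (inf_le_left : A' ⊓ 𝐂[s] ≤ A') fun e => by
      rw [e] at c1; omega)
    have c3 := (ext2 (B := A' ⊓ 𝐂[s]) (fun b hb => hA'.sq b hb.1) (hA'.sq a ha)
      (mem_centralizer_iff.mpr fun b hb => comm_of_sq hA'.sq hb.1 ha) a1).2
    obtain ⟨b, hb, b1⟩ := SetLike.exists_of_lt (lt_of_le_of_ne (sup_le inf_le_left (zpowers_le.mpr ha) :
      A' ⊓ 𝐂[s] ⊔ zpowers a ≤ A') fun e => by rw [e] at c3; omega)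
    by_contra e
    push Not at e
    refine e _ (mul_mem ha hb) (d _ (mul_mem ha hb) fun e' => b1 ((mul_mem_cancel_left
      (mem_sup_right (mem_zpowers a))).mp (mem_sup_left e'))) ?_
    rw [cmul hA'.sq (m' hs.2) ha hb]
    exact (two_idx inf_le_right c (cmem' (n' ha) hs.2) (cmem' (n' hb) hs.2) (fun e' => e a ha (d a ha a1) e'.1)
      fun e' => e b hb (d b hb fun e' => b1 (mem_sup_left e')) e'.1).1
  have α3 : ⁅α, s⁆ ∈ A ⊓ F ⊓ A' :=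
    ⟨⟨by rw [← commutatorElement_inv]; exact A.inv_mem α2, cmem (n' hα) hs.2⟩,
      cmem' (m' hs.2) hα⟩
  have α4 : ∀ f ∈ F, ⁅α, f⁆ ∈ A ⊓ F ⊓ A' := fun f hf =>
    (k hA' n' c' hs.2 s1 hα hf).elim (fun e => e.2 ▸ one_mem _) fun e => e ▸ α3
  have pF : IsPGroup 2 F := elemAb_pgroup (elem_of_sq sq)
  obtain ⟨P, hP, e1⟩ := exists_isSylowIn_ge (K := St F (A ⊓ F) (A ⊓ F ⊓ A')) (hA.pg.to_sup_of_normal_left' pF m)
    (sup_le (fun a ha => mem_St inf_le_left inf_le_right (fun f hf => ⟨cmem' (m hf) ha, cmem (n ha) hf⟩)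
      (fun f hf => cone hA.sq ha hf.1 ▸ one_mem _) fun f hf => cone hA.sq ha hf.1.1)
      fun a ha => mem_St inf_le_left inf_le_right (fun f hf => cone sq ha hf ▸ one_mem _)
        (fun f hf => cone sq ha hf.2 ▸ one_mem _) fun f hf => cone sq ha hf.1.2)
  obtain ⟨d, hd, e2⟩ := St_cj sq hP (pg_zp (hA'.sq α hα)) (zpowers_le.mpr (mem_St inf_le_left inf_le_right
    (fun f hf => (α4 f hf).1) (fun f hf => α4 f hf.2) fun f hf => cone hA'.sq hα hf.2))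
  have j : ∀ f ∈ F, ⁅d * α * d⁻¹, f⁆ = ⁅α, f⁆ := fun f hf => by
    rw [show d * α * d⁻¹ = d * (α * d⁻¹ * α⁻¹) * α by group]
    exact ccj (mul_mem hd (conj_mem_of_le_normalizer (H8.normalizer_le_normalizer_centralizer _) (n' hα) (inv_mem hd)))
      (n' hα) hf
  have k1 : ∀ a ∈ A, ⁅a, t⁆ ∈ A' := fun a ha => by
    have := h.quad hA hP.pgroup (le_sup_left.trans e1) (e1 (mem_sup_right ht.2)) (e2 (conj_mem_cj d (mem_zpowers α)))
      (sq t ht.2) (G0.sq_conj (hA'.sq α hα) d) (commutatorElement_eq_one_iff_mul_comm.mp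
        ((j t ht.2).trans (cone hA'.sq hα ht.1))).symm ha
    rw [j _ (cmem' (n ha) ht.2)] at this
    rw [← commutatorElement_inv, inv_mem_iff]
    refine ((k hA' n' c' hs.2 s1 hα (cmem' (n ha) ht.2)).resolve_right fun e => α1 ?_).1
    rw [← commutatorElement_inv, ← e, this, inv_one]
  have k2 : ∀ a ∈ A, ∀ f ∈ F, ⁅a, f⁆ ∈ A ⊓ F ⊓ A' := fun a ha f hf =>
    (k hA n c ht.2 t1 ha hf).elim (fun e => e.2 ▸ one_mem _) fun e =>
      ⟨⟨cmem' (m hf) ha, cmem (n ha) hf⟩, e ▸ k1 a ha⟩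
  have l : A ⊓ F ⊓ A' ≤ A' ⊓ F := fun x hx => ⟨hx.2, hx.1.2⟩
  obtain ⟨Q, hQ, e3⟩ := exists_isSylowIn_ge (K := St F (A' ⊓ F) (A ⊓ F ⊓ A')) hA.pg fun a ha =>
    mem_St l inf_le_right (fun f hf => l (k2 a ha f hf)) (fun f hf => k2 a ha f hf.2) fun f hf => cone hA.sq ha hf.1.1
  obtain ⟨g, hg, e4⟩ := St_cj sq hQ hA'.pg fun a ha => mem_St l inf_le_right
    (fun f hf => ⟨cmem' (m' hf) ha, cmem (n' ha) hf⟩) (fun f hf => cone hA'.sq ha hf.1 ▸ one_mem _)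
    fun f hf => cone hA'.sq ha hf.2
  have := (h.uq hA hQ.pgroup e3 (hA'.cj g) e4).le (conj_mem_cj g ht.1)
  rw [← mem_centralizer_iff.mp hg t ht.2, mul_inv_cancel_right] at this
  exact t1 this

theorem Hy.sc (h : Hy G) (hA : El A) : SC A ⊤ := ⟨le_top, hA.sq, fun a ha g _ hn => by_contra fun t1 => by
  have t2 := G0.sq_conj (hA.sq a ha) g
  have ht := conj_mem_cj g ha
  generalize g * a * g⁻¹ = t at *
  have p := pg2 hA.pg hn (pg_zp t2)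
  have c1 := h.c16 hA p le_sup_left (mem_sup_right (mem_zpowers t)) t1 t2
  have hc : t ∈ 𝐂((A ⊓ 𝐂[t] : Subgroup G)) := mem_centralizer_iff.mpr fun b hb => mem_centralizer_singleton_iff.mp hb.2
  obtain ⟨sq, c2⟩ := ext2 (B := A ⊓ 𝐂[t]) (fun b hb => hA.sq b hb.1) t2 hc fun e => t1 e.1
  have tF : t ∈ A ⊓ 𝐂[t] ⊔ zpowers t := mem_sup_right (mem_zpowers t)
  have l1 : A ⊓ 𝐂[t] ⊔ zpowers t ≤ 𝐂[t] :=
    sup_le inf_le_right (zpowers_le.mpr (mem_centralizer_singleton_iff.mpr rfl))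
  have l2 : A ⊓ 𝐂[t] ⊔ zpowers t ≤ A ⊔ zpowers t := sup_le_sup_right inf_le_left _
  have c3 : A ⊓ (A ⊓ 𝐂[t] ⊔ zpowers t) = A ⊓ 𝐂[t] :=
    le_antisymm (inf_le_inf_left _ l1) (le_inf inf_le_left le_sup_left)
  rw [← c3] at c1
  nth_rw 2 [← c3] at c2
  generalize A ⊓ 𝐂[t] ⊔ zpowers t = F at *
  obtain ⟨R, hR, e1⟩ := exists_isSylowIn_ge (elemAb_pgroup (elem_of_sq sq)) l1
  obtain ⟨c, hc, e2⟩ := B07.exists_cj_le_sylow hR (hA.cj g).pg fun x hx =>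
    mem_centralizer_singleton_iff.mpr (comm_of_sq (hA.cj g).sq hx ht)
  have hA' := (hA.cj g).cj c
  have n := h.nE hA p le_sup_left l2 sq (by omega)
  have n' := h.nE hA' hR.pgroup e2 e1 sq (by omega)
  obtain ⟨P, hP, e3⟩ := exists_isSylowIn_ge hA.pg n
  obtain ⟨d, hd, e4⟩ := B07.exists_cj_le_sylow hP hA'.pg n'
  refine h.two hA hA' sq n n' (l2.trans (h.norm hA p le_sup_left)) (e1.trans (h.norm hA' hR.pgroup e2)) c2 ?_
    ⟨?_, tF⟩ t1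
  · rw [← card_cj d (_ ⊓ F), cj_inf, h.uq hA hP.pgroup e3 (hA'.cj d) e4, cj_eq_self_iff.mpr hd, c2]
  · have := conj_mem_cj c ht
    rwa [mem_centralizer_singleton_iff.mp hc, mul_inv_cancel_right] at this⟩

end Cfsg.Agent.H1.MQ
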