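import Cfsg.Agent.H1.JR
import Cfsg.Agent.H1.M24S

/-! Groups with Sylow `2`-subgroup `R` and central `z`: the extraspecial subgroup is strongly closed. -/

set_option autoImplicit false
set_option linter.unusedSectionVars false

namespace Cfsg.Agent.H1.JR

open Subgroup Cfsg.Agent.FT Cfsg.Agent.L0 Cfsg.Agent.H8 Cfsg.Agent.WA.GS Cfsg.Agent.H1.MQ
open scoped commutatorElement

local instance f2 : Fact (Nat.Prime 2) := Nat.fact_prime_two

variable {G : Type*} [Group G] [Finite G] {A B F P W : Subgroup G} {a f g t u x y z : G} {φ ψ : R →* G}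

structure Em (φ : R →* G) (z : G) : Prop where
  inj : Function.Injective φ
  hz : φ z0 = z

structure Hz (z : G) : Prop where
  cz : ∀ g, g * z = z * g
  em : ∀ P : Subgroup G, IsPGroup 2 P → ∃ φ : R →* G, Em φ z ∧ P ≤ φ.range

structure El (z : G) (F : Subgroup G) : Prop where
  sq : ∀ x ∈ F, x * x = 1 ∨ x * x = z
  card : #|F| = 32

structure A16 (A : Subgroup G) : Prop where
  sq : ∀ x ∈ A, x * x = 1
  card : #|A| = 16

theorem El.pg (h : El z F) : IsPGroup 2 F := IsPGroup.of_card (n := 5) h.card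
theorem A16.pg (h : A16 A) : IsPGroup 2 A := IsPGroup.of_card (n := 4) h.card

def tw (φ : R →* G) : R →* G := φ.comp (MulAut.conj (e 0)⁻¹).toMonoidHom

theorem tw_apply (x : R) : tw φ (e 0 * x * (e 0)⁻¹) = φ x := by simp [tw, mul_assoc]

theorem tw_range : φ.range ≤ (tw φ).range := by rintro _ ⟨x, rfl⟩; exact ⟨_, tw_apply x⟩

namespace Em
variable (h : Em φ z)
include h

theorem iz {x : R} : φ x = 1 ∨ φ x = z ↔ iZ x := by rw [← h.hz, ← φ.map_one, h.inj.eq_iff, h.inj.eq_iff]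
theorem z2 : z * z = 1 := by rw [← h.hz, ← map_mul, z0_spec.1, map_one]
theorem z1 : z ≠ 1 := fun e => z0_spec.2.1 (h.inj (by rw [h.hz, e, map_one]))
theorem iy {x : R} (hx : iY x) : φ x = φ (e 4) ∨ φ x = z * φ (e 4) :=
  hx.imp (congrArg φ) fun e => by rw [e, map_mul, h.hz]
theorem mem {X : Subgroup R} {x : R} : φ x ∈ X.map φ ↔ x ∈ X := mem_map_iff_mem h.inj
theorem card (X : Subgroup R) : #|X.map φ| = #|X| := card_map_of_injective h.inj
theorem card' (hF : F ≤ φ.range) : #|F.comap φ| = #|F| := by rw [← h.card, map_comap_eq_self hF]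

theorem tw : Em (tw φ) z :=
  ⟨h.inj.comp (MulAut.conj (e 0)⁻¹).injective, by
    rw [← h.hz, ← tw_apply (φ := φ) z0, z0_spec.2.2.2.2.2.2.2, mul_inv_cancel_right]⟩

theorem el : El z (E0.map φ) := ⟨by rintro _ ⟨x, hx, rfl⟩; rw [← map_mul]; exact h.iz.mpr (E0_sq x hx), (h.card _).trans cards.1⟩

theorem a16 : A16 (A1.map φ) :=
  ⟨by rintro _ ⟨x, hx, rfl⟩; rw [← map_mul, A1_sq x hx, map_one], (h.card _).trans cards.2.1⟩

theorem eqE (hF : El z F) (hle : F ≤ φ.range) : E0.map φ = F := by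
  have k : ∀ x ∈ F.comap φ, iZ (x * x) := fun x hx => h.iz.mp (map_mul φ x x ▸ hF.sq _ hx)
  have c := (h.card' hle).trans hF.card
  rw [← eq_of_le_of_card (fun t ht => by_contra fun e => ?_ : F.comap φ ≤ E0) (cards.1.trans c.symm).le, map_comap_eq_self hle]
  exact absurd ((card_le _ _ fun x hx => ⟨k x hx, k _ (mul_mem hx ht)⟩).trans_lt (out32 t e (k t ht)).1) (by omega)

theorem eqA (hA : A16 A) (hle : A ≤ φ.range) {t : R} (h1 : t ∈ A1) (h2 : t ∉ E0) (ht : φ t ∈ A) : A1.map φ = A := by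
  rw [← eq_of_le_of_card (fun x hx => cA t h1 h2 x (h.inj (by rw [map_mul, map_mul, comm_of_sq hA.sq hx ht])) :
    A.comap φ ≤ A1) (cards.2.1.trans ((h.card' hle).trans hA.card).symm).le, map_comap_eq_self hle]

theorem nA {u : R} : φ u ∈ 𝐍((A1.map φ : Subgroup G)) ↔ ∀ a ∈ A1, u * a * u⁻¹ ∈ A1 :=
  ⟨fun hu a ha => h.mem.mp (by
    simpa only [map_mul, map_inv] using conj_mem_of_le_normalizer le_rfl hu (mem_map_of_mem φ ha)), fun hu =>
      H5.mem_normalizer_of_conj_mem (by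
        rintro _ ⟨a, ha, rfl⟩; simpa only [map_mul, map_inv] using mem_map_of_mem φ (hu a ha))⟩

end Em

theorem cl_ind (hA : ∀ a ∈ A, a * a = 1) (hu : u ∈ 𝐍(A)) {s : Set G} (hs : ∀ f ∈ s, f ∈ A ∧ ⁅u, f⁆ ∈ W) (hf : f ∈ closure s) :
    f ∈ A ∧ ⁅u, f⁆ ∈ W := by
  induction hf using closure_induction with
  | mem f hf => exact hs f hf
  | one => simp
  | mul a b _ _ h1 h2 => exact ⟨mul_mem h1.1 h2.1, MQ.cmul hA hu h1.1 h2.1 ▸ mul_mem h1.2 h2.2⟩
  | inv a _ h1 => rwa [inv_eq_of_mul_eq_one_right (hA a h1.1)]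

namespace Hz
variable (h : Hz z)
include h

theorem frame (hA : A16 A) (hP : IsPGroup 2 P) (hle : A ≤ P) : ∃ φ, Em φ z ∧ P ≤ φ.range ∧ A1.map φ = A := by
  obtain ⟨φ, m, r⟩ := h.em P hP
  have k : ∀ x ∈ A.comap φ, x * x = 1 := fun x hx => m.inj (by rw [map_mul, hA.sq _ hx, map_one])
  obtain ⟨t, ht, t1⟩ : ∃ t ∈ A.comap φ, t ∉ E0 := by
    by_contra e
    push Not at e
    exact absurd ((card_le _ _ fun x hx => ⟨e x hx, k x hx⟩).trans_lt in16) (by rw [m.card' (hle.trans r), hA.card]; omega)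
  rcases (out32 t t1 (Or.inl (k t ht))).2 with e | e
  · exact ⟨φ, m, r, m.eqA hA (hle.trans r) e t1 ht⟩
  · exact ⟨_, m.tw, r.trans tw_range, m.tw.eqA hA (hle.trans (r.trans tw_range)) e
      (fun e => t1 (by simpa [mul_assoc] using E0_norm (JR.e 0)⁻¹ _ e)) (by rwa [tw_apply])⟩

theorem cw (hf : f ∈ zpowers z) : ⁅u, f⁆ = 1 := by
  obtain ⟨k, rfl⟩ := hf
  exact commutatorElement_eq_one_iff_commute.mpr (Commute.zpow_right (h.cz u) k)

theorem y_eq (m : Em φ z) (m' : Em ψ z) (hA : A1.map ψ = A1.map φ) : ψ (e 4) = φ (e 4) ∨ ψ (e 4) = z * φ (e 4) := by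
  by_contra e0
  have sw : ∀ {x y : G}, x = y ∨ x = z * y → y = x ∨ y = z * x := fun e => e.imp Eq.symm fun e => by
    rw [e, ← mul_assoc, m.z2, one_mul]
  have k : ∀ {φ ψ : R →* G}, Em φ z → Em ψ z → A1.map ψ = A1.map φ → ¬ (ψ (e 4) = φ (e 4) ∨ ψ (e 4) = z * φ (e 4)) →
      ∀ s : Set G, (∀ f, f ∈ s ↔ f = z ∨ f = φ (e 4) ∨ f = ψ (e 4)) →
      ∃ u, φ u ∈ St (A1.map φ) (closure s) (zpowers z) ∧ ⁅φ u, ψ (e 4)⁆ = z := fun {φ ψ} m m' hA e0 s hs => by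
    obtain ⟨a, ha, e1⟩ := hA.le (mem_map_of_mem ψ e4.1)
    obtain ⟨u, hu, e2⟩ := (exA a ha).resolve_left fun e2 => (AE a ha e2).elim
      (fun e3 => e4.2.2.1 (m'.iz.mp (e1 ▸ m.iz.mpr e3))) fun e3 => e0 (e1 ▸ m.iy e3)
    have e3 : ⁅φ u, ψ (e 4)⁆ = z := by rw [← e1, ← map_commutatorElement, e2, m.hz]
    have mz : z ∈ closure s := subset_closure ((hs z).mpr (Or.inl rfl))
    have my : φ (e 4) ∈ closure s := subset_closure ((hs _).mpr (Or.inr (Or.inl rfl)))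
    have c := fun f => cl_ind (W := zpowers z) (f := f) (s := s) m.a16.sq (m.nA.mpr hu) fun f hf => by
      rcases (hs f).mp hf with rfl | rfl | rfl
      · exact ⟨m.hz ▸ mem_map_of_mem φ z0_spec.2.2.2.1, h.cw (mem_zpowers f) ▸ one_mem _⟩
      · exact ⟨mem_map_of_mem φ e4.1, by rw [← map_commutatorElement, (nA u hu).2.1, map_one]; exact one_mem _⟩
      · exact ⟨e1 ▸ mem_map_of_mem φ ha, e3.symm ▸ mem_zpowers z⟩
    refine ⟨u, mem_St (zpowers_le.mpr mz) (fun f hf => (c f hf).1) ?_ (fun f hf => (c f hf).2) fun f => h.cw, e3⟩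
    rintro _ ⟨b, hb, rfl⟩
    rw [← map_commutatorElement]
    rcases (nA u hu).1 b hb with e | e
    · exact (m.iz.mpr e).elim (fun e => e ▸ one_mem _) fun e => e ▸ mz
    · exact (m.iy e).elim (fun e => e ▸ my) fun e => e ▸ mul_mem mz my
  obtain ⟨u, hu, e1⟩ := k m m' hA e0 {z, φ (e 4), ψ (e 4)} fun f => Iff.rfl
  obtain ⟨v, hv, e2⟩ := k m' m hA.symm (fun e => e0 (sw e)) {z, φ (e 4), ψ (e 4)} fun f => or_congr_right or_comm
  have l : closure {z, φ (e 4), ψ (e 4)} ≤ A1.map φ := (closure_le _).mpr (by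
    rintro _ (rfl | rfl | rfl)
    exacts [m.hz ▸ mem_map_of_mem φ z0_spec.2.2.2.1, mem_map_of_mem φ e4.1, hA.le (mem_map_of_mem ψ e4.1)])
  obtain ⟨P, hP, e3⟩ := exists_isSylowIn_ge (K := St (A1.map φ) (closure {z, φ (e 4), ψ (e 4)}) (zpowers z)) m.a16.pg
    fun a ha => mem_St (zpowers_le.mpr (subset_closure (Or.inl rfl))) l (fun f hf => cone m.a16.sq ha hf ▸ one_mem _)
      (fun f hf => cone m.a16.sq ha (l hf) ▸ one_mem _) fun f => h.cw
  obtain ⟨χ, n, r, e5⟩ := h.frame m.a16 hP.pgroup e3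
  have j : ∀ {ψ : R →* G} {u f}, Em ψ z → A1.map ψ = A1.map φ → ψ u ∈ St (A1.map φ) (closure {z, φ (e 4), _}) (zpowers z) →
      f ∈ A1.map φ → ⁅ψ u, f⁆ = z → χ (e 4) = ψ (e 4) ∨ χ (e 4) = z * ψ (e 4) := fun {ψ u f} m' hA hu hf e => by
    obtain ⟨c, hc, p, hp, e6⟩ := St_le m.a16.sq hP hu
    obtain ⟨p, rfl⟩ := r hp
    have hn := (hP.le hp).1.1.1
    rcases (nA p (n.nA.mp (e5.symm ▸ hn))).2.2 with e7 | ⟨a, ha, e7⟩
    · exact absurd (by rw [← e, ← e6, ccj hc hn hf, cone m.a16.sq (e5.le (mem_map_of_mem χ e7)) hf]) m.z1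
    obtain ⟨b, hb, e8⟩ := (e5.trans hA.symm).le (mem_map_of_mem χ ha)
    have : χ (JR.e 4) = ψ ⁅u, b⁆ := by
      rw [← e7, map_commutatorElement, map_commutatorElement, ← e6, e8, ccj hc hn (e5.le (mem_map_of_mem χ ha))]
    exact ((nA u (m'.nA.mp (hA.symm ▸ hu.1.1.1))).1 b hb).elim (fun e => absurd (n.iz.mp (this ▸ m'.iz.mpr e)) e4.2.2.1)
      fun e => this ▸ m'.iy e
  rcases sw (j m' hA (hA ▸ hv) (mem_map_of_mem φ e4.1) e2) with e | e
  · exact e0 (e ▸ j m rfl hu (hA.le (mem_map_of_mem ψ e4.1)) e1)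
  · exact e0 ((j m rfl hu (hA.le (mem_map_of_mem ψ e4.1)) e1).symm.imp (fun e' => by
      rw [e, e', ← mul_assoc, m.z2, one_mul]) fun e' => by rw [e, e'])

theorem sq_cj (hx : x * x = z) (g : G) : g * x * g⁻¹ * (g * x * g⁻¹) = z := by
  rw [show g * x * g⁻¹ * (g * x * g⁻¹) = g * (x * x) * g⁻¹ by group, hx, h.cz, mul_inv_cancel_right]

theorem closed (hF : El z F) (hf : f ∈ F) (hn : g * f * g⁻¹ ∈ 𝐍(F)) : g * f * g⁻¹ ∈ F := by
  by_contra t1
  have t2 := (hF.sq f hf).imp (G0.sq_conj · g) (h.sq_cj · g)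
  obtain ⟨φ₀, m₀, -⟩ := h.em ⊥ IsPGroup.of_bot
  obtain ⟨φ, m, r⟩ := h.em _ (pg2 hF.pg hn (H9.isPGroup_zpowers ⟨2, by
    rw [show 2 ^ 2 = 2 * 2 from rfl, pow_mul, pow_two, pow_two]
    exact t2.elim (fun e => by rw [e, mul_one]) fun e => by rw [e, m₀.z2]⟩))
  obtain ⟨φ, m, r, t, e1, h1⟩ : ∃ φ, Em φ z ∧ F ≤ φ.range ∧ ∃ t, φ t = g * f * g⁻¹ ∧ t ∈ A1 := by
    obtain ⟨t, e1⟩ := r (mem_sup_right (mem_zpowers _))
    rcases (out32 t (fun e => t1 (e1 ▸ (m.eqE hF (le_sup_left.trans r)).le (mem_map_of_mem φ e)))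
      (m.iz.mp (by rwa [map_mul, e1]))).2 with e | e
    · exact ⟨φ, m, le_sup_left.trans r, t, e1, e⟩
    · exact ⟨_, m.tw, le_sup_left.trans (r.trans tw_range), _, (tw_apply t).trans e1, e⟩
  have q := m.eqE hF r
  obtain ⟨f, hf', rfl⟩ := q.ge hf
  obtain ⟨y, y1, y2⟩ := exQ f hf'
  have x2 := h.sq_cj (show φ y * φ y = z by rw [← map_mul, y2, m.hz]) g
  obtain ⟨Q, hQ, l⟩ := exists_isSylowIn_ge (K := 𝐂[g * φ f * g⁻¹]) m.a16.pg fun a ha =>
    mem_centralizer_singleton_iff.mpr (comm_of_sq m.a16.sq ha (e1 ▸ mem_map_of_mem φ h1))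
  obtain ⟨c, hc, l'⟩ := B07.exists_cj_le_sylow hQ (S := zpowers (g * φ y * g⁻¹)) (H9.isPGroup_zpowers ⟨2, by
    rw [show 2 ^ 2 = 2 * 2 from rfl, pow_mul, pow_two, pow_two, x2, m.z2]⟩)
    (zpowers_le.mpr (mem_centralizer_singleton_iff.mpr (by
      rw [conj_mul, conj_mul, ← map_mul, y1, map_mul])))
  have m1 := l' (conj_mem_cj c (mem_zpowers _))
  obtain ⟨χ, n, r', e5⟩ := h.frame m.a16 hQ.pgroup l
  obtain ⟨s, hs, e6⟩ := e5.ge (mem_map_of_mem φ h1)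
  obtain ⟨x, e7⟩ := r' m1
  have zF : z ∈ F := q.le (m.hz ▸ mem_map_of_mem φ z0_spec.2.2.1)
  have yF : χ (e 4) ∈ F := (h.y_eq m n e5).elim (fun e => e ▸ q.le (mem_map_of_mem φ e4.2.1))
    fun e => e ▸ mul_mem zF (q.le (mem_map_of_mem φ e4.2.1))
  rw [← e1, ← e6] at t1
  rcases AE s hs (by_contra fun e => m.z1 (by
    rw [← h.sq_cj x2 c, ← e7, ← map_mul, A1_sq x (cA s hs e x (n.inj (by
      rw [map_mul, map_mul, e7, e6, e1]; exact mem_centralizer_singleton_iff.mp (hQ.le m1)))), map_one])) with e | e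
  · exact t1 ((n.iz.mpr e).elim (fun e => e ▸ one_mem _) fun e => e ▸ zF)
  · exact t1 ((n.iy e).elim (fun e => e ▸ yF) fun e => e ▸ mul_mem zF yF)

end Hz

end Cfsg.Agent.H1.JR
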