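import Cfsg.Agent.H1.JB1
import Cfsg.Agent.H7.GlaubAut

/-! The extraspecial subgroup is normal. -/

set_option autoImplicit false
set_option linter.unusedSectionVars false

namespace Cfsg.Agent.H1.JR

open Subgroup Cfsg.Agent.FT Cfsg.Agent.L0 Cfsg.Agent.H8 Cfsg.Agent.WA.GS Cfsg.Agent.H1.MQ
open Cfsg.Agent.H7 (opp)
open scoped commutatorElement

local instance f2' : Fact (Nat.Prime 2) := Nat.fact_prime_two

variable {G : Type*} [Group G] [Finite G] {A B F K J P : Subgroup G} {a b g u x y z : G} {Sg : G → Prop} {φ : R →* G}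

structure Gx (A : Subgroup G) (Sg : G → Prop) : Prop where
  sc : SC A ⊤
  op : opp 2 (⊤ : Subgroup G) = ⊥
  card : #|A| = 16
  img : ∀ B ≤ A, ∀ x ∈ St A B ⊥, ∀ y ∈ St A B ⊥, x ∈ 𝐂(A) ∨ y ∈ 𝐂(A) ∨ ∀ a ∈ A, ⁅x, a⁆ = ⁅y, a⁆
  cent : ∀ u ∈ 𝐂(A), (∃ k, u ^ 2 ^ k = 1) → u ∈ A
  cjs : ∀ x g, Sg x → Sg (g * x * g⁻¹)
  no8 : ∀ x ∈ A, ∀ y ∈ A, Sg x → Sg y → Sg (x * y) → x = 1 ∨ y = 1 ∨ x * y = 1
  top : ∃ T : Subgroup G, IsPGroup 2 T ∧ T ≤ 𝐍(A) ∧ ∀ w ∈ A ⊓ 𝐂(T), Sg w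

namespace Gx
variable (h : Gx A Sg)
include h

theorem kc (hK : AC A K ⊤) : KC A K := hK.kc (ih_all _) (Nat.lt_succ_self _) h.sc

theorem cB (hK : AC A K ⊤) (hu : u ∈ K) (hb : b ∈ cm K) : ⁅u, b⁆ = 1 :=
  mem_bot.mp (h.op ▸ hK.comp.opp_le_opp (hb.2 u hu))

theorem two_mem (hK : AC A K ⊤) (hu : u ∈ K ⊓ 𝐍(A)) (h2 : ∃ k, u ^ 2 ^ k = 1) : u ∈ A := by
  have m : ∀ u ∈ K ⊓ 𝐍(A), (∃ k, u ^ 2 ^ k = 1) → u ∈ St A (BB A K) ⊥ := fun u hu h2 => mem_St bot_le inf_le_left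
    (fun a ha => ⟨cmem hu.2 ha, by
      rw [← commutatorElement_inv]
      exact (cm K).inv_mem ((h.kc hK).two_comm (H9.isPGroup_zpowers h2) (zpowers_le.mpr hu)
        (commutator_mem_commutator ha (mem_zpowers u)))⟩)
    (fun b hb => h.cB hK hu.1 hb.2) fun f hf => by rw [mem_bot.mp hf, commutatorElement_one_right]
  obtain ⟨c, hc, s⟩ := (h.kc hK).sing
  have n : ∀ {a}, a ∈ A → c * a * c⁻¹ ∈ A := conj_mem_of_le_normalizer le_rfl s.norm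
  have e : ∀ a ∈ A, ⁅u, a⁆ = ⁅c * u * c⁻¹, c * a * c⁻¹⁆ := fun a ha => by
    rw [← conjugate_commutatorElement, s.cent _ ((m u hu h2).1.1.2.2 a ha), mul_inv_cancel_right]
  refine h.cent u ((h.img _ inf_le_left _ (m u hu h2) _ (m _ (conj_mem_of_le_normalizer le_normalizer ⟨hc, s.norm⟩ hu)
      (h2.imp fun k e => by rw [conj_pow, e, mul_one, mul_inv_cancel]))).elim id fun e1 => cent_of fun a ha =>
        e1.elim (fun e1 => (e a ha).trans (of_cent e1 (n ha))) fun e1 => ?_) h2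
  have e2 : ∀ i : ℕ, ∀ a ∈ A, ⁅u, c ^ i * a * (c ^ i)⁻¹⁆ = ⁅u, a⁆ := fun i => by
    induction i with
    | zero => simp
    | succ i ih =>
      intro a ha
      rw [e a ha, ← e1 _ (n ha), ← ih _ (n ha), pow_succ, mul_inv_rev]
      simp only [mul_assoc]
  have e3 : ∀ a ∈ A, a ∉ BB A K → ∀ b ∈ A, b ∉ BB A K → ⁅u, a⁆ = ⁅u, b⁆ := fun a ha a1 b hb b1 => by
    obtain ⟨i, hi⟩ := s.trans a ha a1 b hb b1
    rw [← e2 i a ha, ← inv_mul_cancel_right (c ^ i * a * (c ^ i)⁻¹) b, MQ.cmul h.sc.sq hu.2 hi.1 hb, h.cB hK hu.1 hi.2,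
      one_mul]
  by_cases a1 : a ∈ BB A K
  · exact h.cB hK hu.1 a1.2
  have c1 := (ext2 (B := BB A K) (fun b hb => h.sc.sq b hb.1) (h.sc.sq a ha)
    (mem_centralizer_iff.mpr fun b hb => comm_of_sq h.sc.sq hb.1 ha) a1).2
  obtain ⟨b, hb, b1⟩ := SetLike.exists_of_lt (lt_of_le_of_ne (sup_le inf_le_left (zpowers_le.mpr ha) :
    BB A K ⊔ zpowers a ≤ A) fun e => by have := s.four; have := h.card; rw [e] at c1; omega)
  have := e3 _ (mul_mem ha hb) (fun e => b1 ((mul_mem_cancel_left (mem_sup_right (mem_zpowers a))).mp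
    (mem_sup_left e))) b hb fun e => b1 (mem_sup_left e)
  rwa [MQ.cmul h.sc.sq hu.2 ha hb, mul_eq_right] at this

theorem syl (hK : AC A K ⊤) : A ⊓ K ⊓ cm K = ⊥ ∧ AA A K = A ⊓ K ∧ K ⊓ cm K = opp 2 K ∧
    #|A| = #|(A ⊓ K : Subgroup G)| * #|BB A K| := by
  obtain ⟨P, hP, e⟩ := exists_isSylowIn_ge h.sc.pgroup (le_top : A ≤ ⊤)
  have := H7.IsSylowIn.inf_of_sn hP hK.comp.1
  rw [show P ⊓ K = A ⊓ K from le_antisymm (fun x hx => ⟨h.two_mem hK ⟨hx.2, h.sc.le_norm hP.pgroup e le_top hx.1⟩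
    ((hP.pgroup ⟨x, hx.1⟩).imp fun k e => congrArg Subtype.val e), hx.2⟩) (inf_le_inf_right _ e)] at this
  exact (h.kc hK).of_sylow this

theorem one (hK : AC A K ⊤) (h1 : a ∈ A ⊓ K) (h2 : a ∈ BB A K) : a = 1 := mem_bot.mp ((h.syl hK).1 ▸ mem_inf.mpr ⟨h1, h2.2⟩)

theorem move (hK : AC A K ⊤) (ha : a ∈ A ⊓ K) (a1 : a ≠ 1) (hb : b ∈ A ⊓ K) (b1 : b ≠ 1) (hy : y ∈ BB A K)
    (s : Sg (a * y)) : Sg (b * y) := by
  obtain ⟨c, cK, sg⟩ := (h.kc hK).sing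
  obtain ⟨i, hi⟩ := sg.trans a ha.1 (mt (h.one hK ha) a1) b hb.1 (mt (h.one hK hb) b1)
  have e := mul_inv_eq_one.mp (h.one hK ⟨hi.1, mul_mem (conj_mem_of_le_normalizer le_normalizer (pow_mem cK i) ha.2)
    (K.inv_mem hb.2)⟩ hi)
  have := h.cjs _ (c ^ i) s
  rwa [← conj_mul, e, commutatorElement_eq_one_iff_mul_comm.mp (h.cB hK (pow_mem cK i) hy.2), mul_inv_cancel_right] at this

theorem no_comp (K : Subgroup G) : ¬ AC A K ⊤ := fun hK => by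
  obtain ⟨T, hT, hn, hs⟩ := h.top
  have ex : ∀ {K}, AC A K ⊤ → ∀ x, ∃ y ∈ A ⊓ K, y ≠ 1 ∧ y ≠ x := fun hK x => (h.syl hK).2.1 ▸ (h.kc hK).exists_ne x
  have nq : ∀ {x y}, y ∈ A → y ≠ x → x * y ≠ 1 := fun hy e e' => e (mul_left_cancel ((h.sc.sq _ hy).trans
    (mul_eq_one_comm.mp e').symm))
  by_cases e : T ≤ 𝐍(K)
  · obtain ⟨a, ha, a1, -⟩ := ex hK 1
    obtain ⟨w, hw, w1⟩ := exists_mem_ne_one (H4.inf_centralizer_ne_bot_of_isPGroup (h.sc.pgroup.to_le inf_le_left) hT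
      (H8.le_normalizer_inf hn e) fun e => a1 (mem_bot.mp (e ▸ ha)))
    obtain ⟨y, hy, y1, yw⟩ := ex hK w
    have s : ∀ b ∈ A ⊓ K, b ≠ 1 → Sg b := fun b hb b1 => by
      simpa using h.move hK hw.1 w1 hb b1 (one_mem _) (by simpa using hs w ⟨hw.1.1, hw.2⟩)
    rcases h.no8 w hw.1.1 y hy.1 (s w hw.1 w1) (s y hy y1) (s _ (mul_mem hw.1 hy) (nq hy.1 yw)) with e | e | e
    exacts [w1 e, y1 e, nq hy.1 yw e]
  obtain ⟨g, hg, g1⟩ := SetLike.not_le_iff_exists.mp e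
  have hJ : AC A (cj g K) ⊤ := by simpa only [cj_top] using hK.cj' (hn hg)
  have ne : cj g K ≠ K := mt cj_eq_self_iff.mp g1
  have l1 : A ⊓ cj g K ≤ BB A K := (h.syl hJ).2.1 ▸ AC.aa_le_of_ne h.sc hJ hK ne
  have l2 : A ⊓ K ≤ BB A (cj g K) := (h.syl hK).2.1 ▸ AC.aa_le_of_ne h.sc hK hJ ne.symm
  have q := eq_of_le_of_card l1 (by
    have := (h.syl hK).2.2.2
    have := (h.syl hK).2.1 ▸ (h.kc hK).four
    have := (h.syl hJ).2.1 ▸ (h.kc hJ).four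
    have := h.card
    nlinarith)
  obtain ⟨w, hw, w1⟩ := exists_mem_ne_one (H4.inf_centralizer_ne_bot_of_isPGroup h.sc.pgroup hT hn fun e => by
    have := h.card; rw [e, card_bot] at this; omega)
  have c : g * w * g⁻¹ = w := mul_inv_eq_of_eq_mul (mem_centralizer_iff.mp hw.2 g hg)
  obtain ⟨u, hu, v, hv, e⟩ := (h.kc hK).dec hw.1
  rw [(h.syl hK).2.1] at hu
  have u1 : u ≠ 1 := fun e' => w1 (by
    rw [e', one_mul] at e
    have := mem_cj.mp (q.ge hv).2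
    rw [e, ← c, ← mul_assoc, ← mul_assoc, inv_mul_cancel, one_mul, inv_mul_cancel_right] at this
    exact h.one hK ⟨hw.1, this⟩ (e ▸ hv))
  have v1 : v ≠ 1 := fun e' => w1 (by
    rw [e', mul_one] at e
    exact h.one hK (e ▸ hu) (l1 ⟨hw.1, c ▸ conj_mem_cj g (e ▸ hu.2)⟩))
  have s : ∀ a ∈ A ⊓ K, a ≠ 1 → ∀ b ∈ A ⊓ cj g K, b ≠ 1 → Sg (a * b) := fun a ha a1 b hb b1 => by
    rw [h.sc.comm ha.1 hb.1]
    refine h.move hJ (q.ge hv) v1 hb b1 (l2 ha) ?_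
    rw [h.sc.comm hv.1 ha.1]
    exact h.move hK hu u1 ha a1 hv (e ▸ hs w hw)
  have n1 : ∀ a ∈ A ⊓ K, a ≠ 1 → ∀ b ∈ A ⊓ cj g K, a * b ≠ 1 := fun a ha a1 b hb e =>
    a1 (h.one hK ha (eq_inv_of_mul_eq_one_left e ▸ (BB A K).inv_mem (l1 hb)))
  obtain ⟨a, ha, a1, au⟩ := ex hK u
  obtain ⟨b, hb, b1, bv⟩ := ex hJ v
  have e2 : u * v * (a * b) = u * a * (v * b) := by
    rw [mul_assoc, ← mul_assoc v, h.sc.comm hv.1 ha.1]; simp only [mul_assoc]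
  rcases h.no8 _ (mul_mem hu.1 hv.1) _ (mul_mem ha.1 hb.1) (s u hu u1 v (q.ge hv) v1) (s a ha a1 b hb b1)
    (e2 ▸ s _ (mul_mem hu ha) (nq ha.1 au) _ (mul_mem (q.ge hv) hb) (nq hb.1 bv)) with e | e | e
  exacts [n1 u hu u1 v (q.ge hv) e, n1 a ha a1 b hb e, n1 _ (mul_mem hu ha) (nq ha.1 au) _ (mul_mem (q.ge hv) hb) (e2 ▸ e)]

theorem normal : A.Normal := by
  have := (h.sc.struct (ih_all _) (Nat.lt_succ_self _)).1
  rwa [top_le_iff, normalizer_eq_top_iff, Set.eq_empty_of_forall_notMem (s := {K | AC A K ⊤}) h.no_comp, sSup_empty,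
    sup_bot_eq, h.op, bot_sup_eq] at this

end Gx

theorem Hz.normal (h : Hz z) (hO : pPrimeCore 2 G = ⊥) (m : Em φ z) : (E0.map φ).Normal := by
  have hc : zpowers z ≤ center G := zpowers_le.mpr (mem_center_iff.mpr h.cz)
  haveI : (zpowers z).Normal := ⟨fun x hx g => by rwa [mem_center_iff.mp (hc hx) g, mul_inv_cancel_right]⟩
  let π := QuotientGroup.mk' (zpowers z)
  have sj : Function.Surjective π := QuotientGroup.mk'_surjective _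
  have zE : zpowers z ≤ E0.map φ := zpowers_le.mpr (m.hz ▸ mem_map_of_mem φ z0_spec.2.2.1)
  have p1 : ∀ {x}, π x = 1 ↔ x = 1 ∨ x = z := fun {x} =>
    (QuotientGroup.eq_one_iff x).trans (H9.mem_zpowers_of_mul_self m.z2)
  have cm : ((E0.map φ).map π).comap π = E0.map φ := by rw [comap_map_eq, QuotientGroup.ker_mk', sup_eq_left.mpr zE]
  have mm : ∀ {x}, π x ∈ (E0.map φ).map π ↔ x ∈ E0.map φ := fun {x} => by rw [← mem_comap, cm]
  have nm : ∀ {x}, π x ∈ 𝐍(((E0.map φ).map π : Subgroup _)) → x ∈ 𝐍((E0.map φ : Subgroup G)) := fun hx =>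
    H5.mem_normalizer_of_conj_mem fun y hy => mm.mp (by
      simpa only [map_mul, map_inv] using conj_mem_of_le_normalizer le_rfl hx (mem_map_of_mem π hy))
  have sq : ∀ a ∈ (E0.map φ).map π, a * a = 1 := by
    rintro _ ⟨x, hx, rfl⟩; rw [← map_mul]; exact p1.mpr (m.el.sq x hx)
  have em : ∀ P : Subgroup (G ⧸ zpowers z), IsPGroup 2 P → (E0.map φ).map π ≤ P → ∃ ψ : R →* G, Em ψ z ∧ E0.map ψ = E0.map φ ∧
      ∀ x ∈ P, ∃ s, π (ψ s) = x := fun P hP hle => by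
    obtain ⟨ψ, n, r⟩ := h.em (P.comap π) (hP.comap_of_ker_isPGroup π (by
      rw [QuotientGroup.ker_mk']; exact pg_zp m.z2))
    exact ⟨ψ, n, n.eqE m.el ((map_le_iff_le_comap.mp hle).trans r), fun x hx => by
      obtain ⟨x, rfl⟩ := sj x
      obtain ⟨s, rfl⟩ := r hx
      exact ⟨s, rfl⟩⟩
  have := (Gx.normal (A := (E0.map φ).map π) (Sg := fun x => ∀ a, π a = x → a * a = 1) ⟨⟨le_top, sq, ?_⟩,
    (H7.opp_top ..).trans (H7.pPrimeCore_quotient_central (pg_zp m.z2) hc hO), ?_, fun B hB x hx y hy => ?_,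
    fun u hu h2 => ?_, fun x g s a e => ?_, ?_, (φ.range).map π, ?_, ?_, ?_⟩).comap π
  · rwa [cm] at this
  · rintro _ ⟨f, hf, rfl⟩ g - hn
    obtain ⟨g, rfl⟩ := sj g
    rw [← map_inv, ← map_mul, ← map_mul] at hn ⊢
    exact mem_map_of_mem π (h.closed m.el hf (nm hn))
  · have := L0.card_eq_card_inf_ker_mul_card_map π (E0.map φ)
    rw [QuotientGroup.ker_mk', inf_eq_right.mpr zE, m.el.card, Nat.card_zpowers,
      orderOf_eq_prime ((pow_two z).trans m.z2) m.z1] at this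
    omega
  · obtain ⟨P, hP, e1⟩ := exists_isSylowIn_ge (K := St _ B ⊥) (elemAb_pgroup (elem_of_sq sq)) fun a ha => mem_St bot_le hB
      (fun f hf => cone sq ha hf ▸ one_mem _) (fun f hf => cone sq ha (hB hf) ▸ one_mem _)
      fun f hf => cone sq ha (bot_le (a := (E0.map φ).map π) hf)
    obtain ⟨ψ, n, q, r⟩ := em P hP.pgroup e1
    obtain ⟨c, hc, p, hp, rfl⟩ := St_le sq hP hx
    obtain ⟨d, hd, p', hp', rfl⟩ := St_le sq hP hy
    obtain ⟨s, rfl⟩ := r p hp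
    obtain ⟨t, rfl⟩ := r p' hp'
    have k : ∀ {s}, s ∈ E0 → π (ψ s) ∈ (E0.map φ).map π := fun hs => mm.mpr (q.le (mem_map_of_mem ψ hs))
    have k' : ∀ {s}, s ∈ E0 → π (ψ s) ∈ 𝐂(((E0.map φ).map π : Subgroup _)) := fun hs => cent_of fun f => cone sq (k hs)
    by_cases s1 : s ∈ E0
    · exact Or.inl (mul_mem hc (k' s1))
    by_cases t1 : t ∈ E0
    · exact Or.inr (Or.inl (mul_mem hd (k' t1)))
    refine Or.inr (Or.inr fun a ha => ?_)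
    have st : s * t ∈ E0 := by_contra fun e => img s s1 t t1 e (n.iz.mp (p1.mp (by
      simp only [map_commutatorElement]
      exact (hP.le hp').1.2.2 _ ((hP.le hp).1.1.2.2 _ (k (e_spec 0).1)))))
    have tt : t * t ∈ E0 := (by decide +kernel : ∀ t : R, t * t ∈ E0) t
    rw [ccj hc (hP.le hp).1.1.1 ha, ccj hd (hP.le hp').1.1.1 ha, show s = s * t * (t * t)⁻¹ * t by group, map_mul, map_mul,
      ccj (k' (mul_mem st (inv_mem tt))) (hP.le hp').1.1.1 ha]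
  · obtain ⟨ψ, n, q, r⟩ := em _ (pg2 (elemAb_pgroup (elem_of_sq sq)) (centralizer_le_normalizer _ hu)
      (H9.isPGroup_zpowers h2)) le_sup_left
    obtain ⟨s, rfl⟩ := r u (mem_sup_right (mem_zpowers u))
    exact mm.mpr (q.le (mem_map_of_mem ψ (cE s fun a ha => n.iz.mp (p1.mp (by
      simp only [map_commutatorElement]
      exact of_cent hu (mm.mpr (q.le (mem_map_of_mem ψ ha))))))))
  · obtain ⟨g, rfl⟩ := sj g
    simpa [mul_assoc] using G0.sq_conj (s (g⁻¹ * a * g) (by simp [e, mul_assoc])) g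
  · rintro _ ⟨_, ⟨x, hx, rfl⟩, rfl⟩ _ ⟨_, ⟨y, hy, rfl⟩, rfl⟩ s1 s2 s3
    have k : ∀ x, φ x * φ x = 1 → x * x = 1 := fun x e => m.inj (by rw [map_mul, e, map_one])
    rw [← map_mul, ← map_mul] at s3 ⊢
    simp only [p1, m.iz]
    exact no8 x hx y hy (k _ (s1 _ rfl)) (k _ (s2 _ rfl)) (k _ (s3 _ rfl))
  · exact (IsPGroup.of_card (G := φ.range) (n := 7) (by rw [MonoidHom.range_eq_map, m.card, card_top, card_R]; rfl)).map π
  · rintro _ ⟨_, ⟨g, rfl⟩, rfl⟩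
    refine H5.mem_normalizer_of_conj_mem ?_
    rintro _ ⟨_, ⟨x, hx, rfl⟩, rfl⟩
    simpa only [map_mul, map_inv] using mem_map_of_mem π (mem_map_of_mem φ (E0_norm g x hx))
  · rintro w hw a rfl
    obtain ⟨x, hx, rfl⟩ := mm.mp hw.1
    rw [← map_mul, sing x hx fun g => m.iz.mp (p1.mp (by
      simp only [map_commutatorElement]
      exact commutatorElement_eq_one_iff_mul_comm.mpr (mem_centralizer_iff.mp hw.2 _ ⟨_, ⟨g, rfl⟩, rfl⟩))), map_one]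

end Cfsg.Agent.H1.JR
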