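import Cfsg.Agent.H1.JB2
import Cfsg.Agent.H6.Transfer

/-! The structure `2^(1+4)_- : A₅`. -/

set_option autoImplicit false
set_option linter.unusedSectionVars false

namespace Cfsg.Agent.H1.JR

open Subgroup Cfsg.Agent.FT Cfsg.Agent.L0 Cfsg.Agent.H8 Cfsg.Agent.WA.GS Equiv Equiv.Perm
open Cfsg.Agent.H7 (opp)

local instance f3 : Fact (Nat.Prime 2) := Nat.fact_prime_two

variable {G G' : Type*} [Group G] [Finite G] [Group G'] {K : Subgroup G} {g k l z : G} {φ : R →* G} {p q : Perm (Fin 5)}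
  {u : R} {i j : Fin 5}

def Ac (φ : R →* G) (k : G) (p : Perm (Fin 5)) : Prop := ∀ i, k * φ (e i) * k⁻¹ = φ (e (p i))
def al (p : Perm (Fin 5)) (u : R) : R := ((word u).map (e ∘ p)).prod

omit [Finite G] in
theorem Ac.mul (h : Ac φ k p) (h' : Ac φ l q) : Ac φ (k * l) (p * q) := fun i => by
  rw [mul_apply, ← h, ← h', mul_inv_rev]; simp only [mul_assoc]

omit [Finite G] in
theorem Ac.inv (h : Ac φ k p) : Ac φ k⁻¹ p⁻¹ := fun i => by
  have := h (p⁻¹ i)
  rw [show p (p⁻¹ i) = i by simp] at this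
  rw [← this]; simp [mul_assoc]

omit [Finite G] in
theorem Ac.al (h : Ac φ k p) (hu : u ∈ E0) : k * φ u * k⁻¹ = φ (al p u) := by
  rw [JR.al]
  nth_rw 1 [word_spec u hu]
  induction word u with
  | nil => simp
  | cons a l ih => simp only [List.map_cons, List.prod_cons, map_mul, ← ih, ← conj_mul, h a, Function.comp]

theorem al_mem : al p u ∈ E0 := list_prod_mem (by
  simp only [List.mem_map]; rintro _ ⟨i, -, rfl⟩; exact (e_spec _).1)

structure Fm (φ : R →* G) (K : Subgroup G) : Prop where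
  inj : Function.Injective φ
  ex : ∀ p : Perm (Fin 5), sign p = 1 → ∃ k ∈ K, Ac φ k p
  uq : ∀ k ∈ K, Ac φ k 1 → k = 1
  gen : ∀ g, ∃ u ∈ E0, ∃ p, sign p = 1 ∧ g * φ u ∈ K ∧ Ac φ (g * φ u) p

theorem ac_one : ∀ u ∈ E0, ∀ p : Perm (Fin 5), (∀ i, u * e i * u⁻¹ = e (p i)) → p = 1 := fun u hu p h => Perm.ext fun i =>
  (e_spec (p i)).2.2.2.1 i (h i ▸ (e_spec i).2.2.2.2 u hu)

omit [Finite G] in
theorem Ac.ml {x y : G} {v : R} (h : Ac φ (y * φ v) q) (hu : u ∈ E0) :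
    x * y * φ (v * JR.al q⁻¹ u) = x * φ u * (y * φ v) := by
  rw [map_mul, ← h.inv.al hu]; group

omit [Finite G] in
theorem Ac.iv {x : G} (h : Ac φ (x * φ u) p) (hu : u ∈ E0) : x⁻¹ * φ (JR.al p u)⁻¹ = (x * φ u)⁻¹ := by
  rw [map_inv, ← h.al hu]; group

def gr (φ : R →* G) (K : Subgroup G) (ψ : R →* G') (L : Subgroup G') : Subgroup (G × G') where
  carrier := {x | ∃ u ∈ E0, ∃ p, (x.1 * φ u ∈ K ∧ Ac φ (x.1 * φ u) p) ∧ x.2 * ψ u ∈ L ∧ Ac ψ (x.2 * ψ u) p}
  one_mem' := ⟨1, one_mem _, 1, ⟨by simp, fun i => by simp⟩, by simp, fun i => by simp⟩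
  mul_mem' := by
    rintro x y ⟨u, hu, p, h1, h2⟩ ⟨v, hv, q, h3, h4⟩
    exact ⟨v * al q⁻¹ u, mul_mem hv al_mem, p * q, by
      rw [Prod.fst_mul, h3.2.ml hu]; exact ⟨mul_mem h1.1 h3.1, h1.2.mul h3.2⟩, by
      rw [Prod.snd_mul, h4.2.ml hu]; exact ⟨mul_mem h2.1 h4.1, h2.2.mul h4.2⟩⟩
  inv_mem' := by
    rintro x ⟨u, hu, p, h1, h2⟩
    exact ⟨(al p u)⁻¹, inv_mem al_mem, p⁻¹, by rw [Prod.fst_inv, h1.2.iv hu]; exact ⟨inv_mem h1.1, h1.2.inv⟩, by
      rw [Prod.snd_inv, h2.2.iv hu]; exact ⟨inv_mem h2.1, h2.2.inv⟩⟩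

omit [Finite G] in
theorem Fm.one {ψ : R →* G'} {L : Subgroup G'} (h : Fm φ K) (h' : Fm ψ L) {y : G'} (hu : u ∈ E0) (h1 : φ u ∈ K) (h2 : Ac φ (φ u) p)
    (h3 : y * ψ u ∈ L) (h4 : Ac ψ (y * ψ u) p) : y = 1 := by
  obtain rfl := ac_one u hu p fun i => h.inj (by rw [map_mul, map_mul, map_inv, h2])
  have := h'.uq _ h3 h4
  rwa [h.inj ((h.uq _ h1 h2).trans φ.map_one.symm), map_one, mul_one] at this

omit [Finite G] in
theorem Fm.iso {ψ : R →* G'} {L : Subgroup G'} (h : Fm φ K) (h' : Fm ψ L) : Nonempty (G ≃* G') := by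
  refine (exists_mulEquiv_eq_graph (G := gr φ K ψ L) ⟨?_, fun g => ?_⟩ ⟨?_, fun g => ?_⟩).nonempty
  · refine (injective_iff_map_eq_one ((MonoidHom.fst G G').comp (gr φ K ψ L).subtype)).mpr ?_
    rintro ⟨⟨x, y⟩, u, hu, p, h1, h2⟩ (rfl : x = 1)
    rw [one_mul] at h1
    obtain rfl := h.one h' hu h1.1 h1.2 h2.1 h2.2
    rfl
  · obtain ⟨u, hu, p, s, h1⟩ := h.gen g
    obtain ⟨k, hk⟩ := h'.ex p s
    exact ⟨⟨(g, k * (ψ u)⁻¹), u, hu, p, h1, by simpa using hk⟩, rfl⟩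
  · refine (injective_iff_map_eq_one ((MonoidHom.snd G G').comp (gr φ K ψ L).subtype)).mpr ?_
    rintro ⟨⟨x, y⟩, u, hu, p, h1, h2⟩ (rfl : y = 1)
    rw [one_mul] at h2
    obtain rfl := h'.one h hu h2.1 h2.2 h1.1 h1.2
    rfl
  · obtain ⟨u, hu, p, s, h1⟩ := h'.gen g
    obtain ⟨k, hk⟩ := h.ex p s
    exact ⟨⟨(k * (φ u)⁻¹, g), u, hu, p, by simpa using hk, h1⟩, rfl⟩

def Rl (φ : R →* G) (z g : G) (i j : Fin 5) : Prop := g * φ (e i) * g⁻¹ = φ (e j) ∨ g * φ (e i) * g⁻¹ = z * φ (e j)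

theorem Em.rl_uq (m : Em φ z) {j' : Fin 5} (h : Rl φ z g i j) (h' : Rl φ z g i j') : j = j' := by
  refine (e_spec j).2.2.2.1 j' ?_
  rw [← m.inj.eq_iff, ← m.inj.eq_iff, map_mul, m.hz]
  rcases h with h | h <;> rcases h' with h' | h' <;> rw [h] at h'
  exacts [Or.inl h', Or.inr h', Or.inr (by rw [← h', ← mul_assoc, m.z2, one_mul]), Or.inl (mul_left_cancel h')]

theorem Hz.perm (h : Hz z) (m : Em φ z) [(E0.map φ).Normal] : ∃ π : G →* Perm (Fin 5), ∀ g i, Rl φ z g i (π g i) := by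
  have ex : ∀ g i, ∃ j, Rl φ z g i j := fun g i => by
    obtain ⟨x, hx, e1⟩ := Normal.conj_mem inferInstance _ (mem_map_of_mem φ (e_spec i).1) g
    rcases inv5 x hx (m.inj (by rw [map_mul, e1, conj_mul, ← map_mul, (e_spec i).2.1]; simp)) with e2 | ⟨j, e2⟩
    · refine absurd (m.iz.mp ((m.iz.mpr e2).imp (fun e3 => by simpa [e1] using e3) fun e3 => ?_)) (e_spec i).2.2.1
      rw [e1, mul_inv_eq_iff_eq_mul, ← h.cz] at e3
      exact mul_left_cancel e3
    · exact ⟨j, e2.imp (fun e => by rw [← e1, e]) fun e => by rw [← e1, e, map_mul, m.hz]⟩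
  choose s hs using ex
  have ml : ∀ g k i, Rl φ z (g * k) i (s g (s k i)) := fun g k i => by
    have : g * k * φ (e i) * (g * k)⁻¹ = g * (k * φ (e i) * k⁻¹) * g⁻¹ := by group
    have c : ∀ x, g * (z * x) * g⁻¹ = z * (g * x * g⁻¹) := fun x => by rw [← mul_assoc, h.cz]; simp only [mul_assoc]
    rw [Rl, this]
    rcases hs k i with e | e <;> rw [e]
    · exact hs g _
    · rw [c]
      exact (hs g _).symm.imp (fun e => by rw [e, ← mul_assoc, m.z2, one_mul]) fun e => by rw [e]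
  letI : MulAction G (Fin 5) :=
    { smul := s
      one_smul := fun i => m.rl_uq (hs 1 i) (Or.inl (by simp))
      mul_smul := fun g k i => m.rl_uq (hs _ i) (ml g k i) }
  exact ⟨MulAction.toPermHom G (Fin 5), hs⟩

theorem Hz.cE (h : Hz z) (hO : pPrimeCore 2 G = ⊥) (m : Em φ z) (hk : Ac φ k 1) : k = 1 ∨ k = z := by
  haveI := h.normal hO m
  have zc : zpowers z ≤ 𝐂((E0.map φ : Subgroup G)) := zpowers_le.mpr (mem_centralizer_iff.mpr fun g _ => h.cz g)
  have := H7.le_sup_opp_of_central_sylow (p := 2) (Z := zpowers z) (D := 𝐂((E0.map φ : Subgroup G))) ⟨zc, pg_zp m.z2,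
    fun Q h1 h2 h3 => le_antisymm (fun x hx => ?_) h3⟩ fun x _ => mem_centralizer_iff.mpr fun y hy => ?_
  · rw [le_bot_iff.mp ((H7.opp_mono_of_sn (H7.SN.of_normal le_top)).trans ((H7.opp_top ..).trans hO).le), sup_bot_eq] at this
    refine (H9.mem_zpowers_of_mul_self m.z2).mp (this (mem_centralizer_iff.mpr ?_))
    rintro _ ⟨u, hu, rfl⟩
    have e1 : Ac φ 1 1 := fun i => by simp
    have := (hk.al hu).trans (e1.al hu).symm
    rw [one_mul, inv_one, mul_one] at this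
    exact (mul_inv_eq_iff_eq_mul.mp this).symm
  · obtain ⟨ψ, n, r⟩ := h.em _ (IsPGroup.to_sup_of_normal_left m.el.pg h2)
    obtain ⟨x, rfl⟩ := r (mem_sup_right hx)
    exact (H9.mem_zpowers_of_mul_self m.z2).mpr (n.iz.mpr (cE' x fun i => n.inj (by
      rw [map_mul, map_mul, mem_centralizer_iff.mp (h1 hx) _ ((n.eqE m.el (le_sup_left.trans r)).le
        (mem_map_of_mem ψ (e_spec i).1))])))
  · obtain ⟨k, rfl⟩ := hy
    exact (Commute.zpow_right (h.cz x) k).symm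

theorem S0_act : ∀ x ∈ S0, ∀ i, ∃ j, x * e i * x⁻¹ = e j := by decide +kernel

theorem Hz.fm (h : Hz z) (hO : pPrimeCore 2 G = ⊥) (m : Em φ z) (hg : Rl φ z g 0 4) : Nat.card G = 1920 ∧ ∃ K, Fm φ K := by
  haveI := h.normal hO m
  obtain ⟨π, hπ⟩ := h.perm m
  have pe : ∀ {k i j}, k * φ (e i) * k⁻¹ = φ (e j) → π k i = j := fun e => m.rl_uq (hπ _ _) (Or.inl e)
  have pE : ∀ u ∈ E0, π (φ u) = 1 := fun u hu => Perm.ext fun i => m.rl_uq (hπ _ _)
    (((e_spec i).2.2.2.2 u hu).imp (fun e => by simpa using congrArg φ e) fun e => by simpa [m.hz] using congrArg φ e)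
  have sec : ∀ g, sign (π g) = 1 → ∃ u ∈ E0, Ac φ (g * φ u) (π g) := fun g s => by
    classical
    obtain ⟨x, hx, e1⟩ := signs fun i => decide (g * φ (e i) * g⁻¹ = z * φ (e (π g i)))
    have k : ∀ i ≠ 4, g * φ x * φ (e i) * (g * φ x)⁻¹ = φ (e (π g i)) := fun i hi => by
      rw [show g * φ x * φ (e i) * (g * φ x)⁻¹ = g * φ (x * e i * x⁻¹) * g⁻¹ by simp [mul_assoc], e1 i hi]
      by_cases e2 : g * φ (e i) * g⁻¹ = z * φ (e (π g i))
      · rw [decide_eq_true e2, cond_true, map_mul, ← conj_mul, e2, m.hz, h.cz, mul_inv_cancel_right, ← mul_assoc, m.z2,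
          one_mul]
      · rw [decide_eq_false e2, cond_false, (hπ g i).resolve_right e2]
    refine ⟨x, hx, fun i => ?_⟩
    by_cases hi : i = 4
    · rw [hi, ← even5 _ s, show e 4 = e 0 * e 1 * e 2 * e 3 from (even5 1 rfl).symm]
      simp only [map_mul φ, ← conj_mul, k 0 (by decide), k 1 (by decide), k 2 (by decide), k 3 (by decide)]
    · exact k i hi
  have zE : ∀ {k}, k = 1 ∨ k = z → k ∈ E0.map φ := fun e => e.elim (fun e => e ▸ one_mem _)
    fun e => e ▸ m.hz ▸ mem_map_of_mem φ z0_spec.2.2.1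
  have ker : π.ker = E0.map φ := le_antisymm (fun g (e : π g = 1) => by
    obtain ⟨u, hu, e1⟩ := sec g (by rw [e, map_one])
    exact (mul_mem_cancel_right (mem_map_of_mem φ hu)).mp (zE (h.cE hO m (e ▸ e1))))
    (by rintro _ ⟨u, hu, rfl⟩; exact pE u hu)
  have c1 : Nat.card G = 32 * #|π.range| := by
    rw [← m.el.card, ← ker, ← index_ker, card_mul_index]
  have c2 : #|π.range| = 60 := by
    have m1 : σ1 ∈ π.range := ⟨φ s1, Perm.ext fun i => pe (by simpa using congrArg φ (s_e i).1)⟩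
    have m2 : σ2 ∈ π.range := ⟨φ s2, Perm.ext fun i => pe (by simpa using congrArg φ (s_e i).2)⟩
    have m3 : ∀ a ∈ [σ1, σ2, σ1 * σ2], a ∈ π.range := by simpa using ⟨m1, m2, mul_mem m1 m2⟩
    have dv : ∀ n, n.Prime → (∃ a ∈ [σ1, σ2, σ1 * σ2], ∃ b ∈ [σ1, σ2, σ1 * σ2], (a * (π g * b * (π g)⁻¹)) ^ n = 1 ∧
        a * (π g * b * (π g)⁻¹) ≠ 1) → n ∣ #|π.range| := fun n hn ⟨a, ha, b, hb, e1, e2⟩ => by
      haveI := Fact.mk hn
      exact orderOf_eq_prime e1 e2 ▸ orderOf_dvd_natCard _ (mul_mem (m3 a ha)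
        (mul_mem (mul_mem ⟨g, rfl⟩ (m3 b hb)) (inv_mem ⟨g, rfl⟩)))
    have f := five (π g) fun e => absurd ((π g).injective ((m.rl_uq (hπ g 0) hg).trans e.symm)) (by decide)
    have d3 := dv 3 (by norm_num) f.1
    have d5 := dv 5 (by norm_num) f.2
    have d4 : 128 ∣ Nat.card G := by
      rw [← card_R, ← card_top, ← m.card]; exact card_subgroup_dvd_card _
    have d8 : ¬ 2 ^ 8 ∣ Nat.card G := fun d => by
      obtain ⟨P, hP⟩ := Sylow.exists_subgroup_card_pow_prime 2 d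
      obtain ⟨ψ, n, r⟩ := h.em P (IsPGroup.of_card hP)
      have := card_le_of_le r
      rw [hP, MonoidHom.range_eq_map, n.card, card_top, card_R] at this
      omega
    have d := card_subgroup_dvd_card π.range
    rw [Nat.card_perm, Nat.card_fin] at d
    have := Nat.le_of_dvd (by norm_num) d
    have : 0 < #|π.range| := Nat.card_pos
    simp only [Nat.factorial] at *
    omega
  have ra : π.range = alternatingGroup (Fin 5) := eq_alternatingGroup_of_index_eq_two (by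
    have := π.range.card_mul_index
    rw [c2, Nat.card_perm, Nat.card_fin] at this
    simp only [Nat.factorial] at this
    omega)
  have ev : ∀ g, sign (π g) = 1 := fun g => mem_alternatingGroup.mp (ra.le ⟨g, rfl⟩)
  let L : Subgroup G :=
    { carrier := {k | Ac φ k (π k)}
      one_mem' := fun i => by simp
      mul_mem' := fun {a b} ha hb => show Ac φ _ _ from (map_mul π a b).symm ▸ Ac.mul ha hb
      inv_mem' := fun {a} ha => show Ac φ _ _ from (map_inv π a).symm ▸ Ac.inv ha }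
  have sL : S0.map φ ≤ L := by
    rintro _ ⟨x, hx, rfl⟩ i
    obtain ⟨j, e1⟩ := S0_act x hx i
    have : φ x * φ (e i) * (φ x)⁻¹ = φ (e j) := by simpa using congrArg φ e1
    rw [pe this, this]
  have zL : z ∈ L := sL (m.hz ▸ mem_map_of_mem φ z0_spec.2.2.2.2.2.1)
  have cL : #|L| ∣ 2 * 60 := by
    rw [L0.card_eq_card_inf_ker_mul_card_map π L]
    refine Nat.mul_dvd_mul ?_ (c2 ▸ card_dvd_of_le (map_le_range π L))
    rw [← orderOf_eq_prime ((pow_two z).trans m.z2) m.z1, ← Nat.card_zpowers]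
    exact card_dvd_of_le fun k hk => (H9.mem_zpowers_of_mul_self m.z2).mpr (h.cE hO m ((show π k = 1 from hk.2) ▸ hk.1))
  refine (H6.exists_index_two_of_not_conj (G := L) (H := (S0.map φ).subgroupOf L) (M := (M0.map φ).subgroupOf L)
    (x := ⟨z, zL⟩) ?_ ?_ ⟨1, Subtype.ext ((pow_two z).trans m.z2)⟩ (fun g e => ?_) fun k g hk _ => ?_).elim
    fun K ⟨i2, zK⟩ => ?_
  rotate_right
  · have hK : ∀ k ∈ L, k ∈ K.map L.subtype ∨ k * z ∈ K.map L.subtype := fun k hk =>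
      (Classical.em (⟨k, hk⟩ ∈ K)).imp (mem_map_of_mem L.subtype) fun e => mem_map_of_mem L.subtype
        ((mul_mem_iff_of_index_two i2 (a := ⟨k, hk⟩)).mpr (iff_of_false e zK))
    have gen : ∀ g, ∃ u ∈ E0, g * φ u ∈ K.map L.subtype ∧ π (g * φ u) = π g := fun g => by
      obtain ⟨u, hu, e1⟩ := sec g (ev g)
      have k : ∀ u ∈ E0, π (g * φ u) = π g := fun u hu => by rw [map_mul, pE u hu, mul_one]
      rcases hK _ (show Ac φ _ _ from (k u hu).symm ▸ e1) with e | e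
      · exact ⟨u, hu, e, k u hu⟩
      · exact ⟨u * z0, mul_mem hu z0_spec.2.2.1, by rwa [map_mul, m.hz, ← mul_assoc], k _ (mul_mem hu z0_spec.2.2.1)⟩
    refine ⟨by rw [c1, c2], K.map L.subtype, m.inj, fun p s => ?_, ?_, fun g => ?_⟩
    · obtain ⟨g, rfl⟩ := ra.ge (mem_alternatingGroup.mpr s)
      obtain ⟨u, -, e1, e2⟩ := gen g
      exact ⟨_, e1, e2 ▸ map_subtype_le K e1⟩
    · rintro _ ⟨k, hk, rfl⟩ e
      exact (h.cE hO m e).resolve_right fun e => zK ((Subtype.ext e : k = ⟨z, zL⟩) ▸ hk)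
    · obtain ⟨u, hu, e1, -⟩ := gen g
      exact ⟨u, hu, _, ev _, e1, map_subtype_le K e1⟩
  · have := ((S0.map φ).subgroupOf L).card_mul_index
    rw [Nat.card_congr (subgroupOfEquivOfLe sL).toEquiv, m.card, cards.2.2.2.1] at this
    exact Odd.of_dvd_nat (by decide : Odd 15) (Nat.dvd_of_mul_dvd_mul_left (by norm_num : 0 < 8) (this ▸ cL))
  · rw [relIndex_subgroupOf sL, relIndex_map_map_of_injective _ _ m.inj]
    have := relIndex_mul_card_of_le S0_sq.1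
    rw [cards.2.2.2.1, cards.2.2.2.2] at this
    omega
  · rw [mem_subgroupOf, Subgroup.coe_mul, Subgroup.coe_mul, h.cz, Subgroup.coe_inv, mul_assoc, inv_mul_cancel, mul_one, ← m.hz, m.mem] at e
    exact z0_spec.2.2.2.2.2.2.1 e
  · obtain ⟨k, rfl⟩ := Nat.exists_eq_add_of_lt hk
    rw [show (⟨z, zL⟩ : L) ^ 2 ^ (0 + k + 1) = 1 from Subtype.ext (by
      rw [pow_succ', pow_mul, Subgroup.coe_pow, Subgroup.coe_pow, pow_two, m.z2, one_pow, Subgroup.coe_one])]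
    simp

end Cfsg.Agent.H1.JR
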