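import Cfsg.Agent.H1.JB3

/-! Groups with Sylow `2`-subgroup `R` and no subgroup of index two: the centralizer of `z`. -/

set_option autoImplicit false
set_option linter.unusedSectionVars false

namespace Cfsg.Agent.H1.JR

open Subgroup Cfsg.Agent.FT Cfsg.Agent.L0 Cfsg.Agent.H8 Cfsg.Agent.WA.GS

local instance f4 : Fact (Nat.Prime 2) := Nat.fact_prime_two

variable {G : Type*} [Group G] [Finite G] {g z : G} {φ : R →* G} {P Q : Subgroup G}

theorem Em.syl (m : Em φ z) (hS : IsSylowIn 2 φ.range ⊤) : IsSylowIn 2 φ.range 𝐂[z] :=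
  ⟨by
    rintro _ ⟨x, rfl⟩
    exact mem_centralizer_singleton_iff.mpr (by rw [← m.hz, ← map_mul, z0_spec.2.2.2.2.2.2.2, map_mul]),
    hS.pgroup, fun Q _ h => hS.max Q le_top h⟩

theorem Em.big (m : Em φ z) (hP : cj g P ≤ φ.range) (p : R → Prop) [DecidablePred p] (h : ∀ x, g⁻¹ * φ x * g ∈ P → p x) :
    #|P| ≤ (Finset.univ.filter p).card := by
  rw [← card_cj g, ← m.card' hP]
  exact card_le _ _ fun x hx => h x (mem_cj.mp hx)

theorem Em.mv (m : Em φ z) (S : Sylow 2 G) (hr : φ.range = S) (h2 : ∀ K : Subgroup G, K.index ≠ 2) :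
    ∃ g ∈ 𝐂[z], Rl φ z g 0 4 := by
  have hS : IsSylowIn 2 φ.range ⊤ := hr ▸ isSylowIn_top S
  have t2 : φ (e 0) * φ (e 0) = 1 := by rw [← map_mul, e4.2.2.2.2.2.1, map_one]
  have t1 : φ (e 0) ≠ 1 := fun e => (e_spec 0).2.2.1 (m.iz.mp (Or.inl e))
  have tz : φ (e 0) ≠ z := fun e => (e_spec 0).2.2.1 (m.iz.mp (Or.inr e))
  have c1 : ∀ {g x : G}, x ≠ 1 → g * x * g⁻¹ ≠ 1 := fun h e => h (by simpa using e)
  have x1 : φ (e 1 * e 2) * φ (e 0) = φ (e 0) * φ (e 1 * e 2) := by rw [← map_mul, e4.2.2.2.2.2.2.1, map_mul]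
  have x2 : φ (e 1 * e 2) * φ (e 1 * e 2) = z := by rw [← map_mul, e4.2.2.2.2.2.2.2.1, m.hz]
  have sq : ∀ {g y}, φ y = g * φ (e 1 * e 2) * g⁻¹ → φ (y * y) = g * z * g⁻¹ ∧ (y * y = z0 ∨ iY (y * y)) := fun {g y} e1 => by
    have : φ (y * y) = g * z * g⁻¹ := by rw [map_mul, e1, conj_mul, x2]
    refine ⟨this, (fsq y (m.inj (by rw [map_mul, this, G0.sq_conj m.z2, map_one]))).imp_left fun e => e.resolve_left fun e => ?_⟩
    exact c1 m.z1 (by rw [← this, e, map_one])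
  have iv : ∀ {g t}, φ t = g * φ (e 0) * g⁻¹ → t * t = 1 ∧ t ≠ 1 := fun e1 =>
    ⟨m.inj (by rw [map_mul, e1, G0.sq_conj t2, map_one]), fun e => c1 t1 (by rw [← e1, e, map_one])⟩
  by_cases hc : ∃ g, g * φ (e 0) * g⁻¹ = z
  · obtain ⟨g, hg⟩ := hc
    obtain ⟨c, hc, l⟩ := B07.exists_cj_le_sylow (m.syl hS) (S := zpowers (g * φ (e 1 * e 2) * g⁻¹)) (H9.isPGroup_zpowers ⟨2, by
      rw [show 2 ^ 2 = 2 * 2 from rfl, pow_mul, pow_two, pow_two, conj_mul, x2, G0.sq_conj m.z2]⟩)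
      (zpowers_le.mpr (mem_centralizer_singleton_iff.mpr (by rw [← hg, conj_mul, conj_mul, x1])))
    obtain ⟨y, e1⟩ := l (conj_mem_cj c (mem_zpowers _))
    have e2 : c * g * φ (e 0) * (c * g)⁻¹ = z := by
      rw [← mul_inv_eq_of_eq_mul (mem_centralizer_singleton_iff.mp hc), ← hg]; group
    have e3 := sq (g := c * g) (e1.trans (by group))
    generalize c * g = g at e2 e3
    have e5 := e3.2.resolve_left fun e => tz (mul_left_cancel (mul_right_cancel (e2.trans (m.hz.symm.trans (e ▸ e3.1)))))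
    have cU : ∀ u ∈ U0, φ u * z = z * φ u ∧ φ u * φ (y * y) = φ (y * y) * φ u := fun u hu => by
      have a : φ u * z = z * φ u := by rw [← m.hz, ← map_mul, z0_spec.2.2.2.2.2.2.2, map_mul]
      have b : φ u * φ (e 4) = φ (e 4) * φ u := by rw [← map_mul, e4.2.2.2.2.2.2.2.2.2 u hu, map_mul]
      exact ⟨a, (m.iy e5).elim (fun e => e ▸ b) fun e => by rw [e, ← mul_assoc, a, mul_assoc, b, mul_assoc]⟩
    obtain ⟨c, hc, l⟩ := B07.exists_cj_le_sylow (m.syl hS) (S := cj g⁻¹ (U0.map φ))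
      (pgroup_cj (hS.pgroup.to_le (map_le_range φ _)) _) fun x hx => by
        obtain ⟨u, hu, e⟩ := mem_cj.mp hx
        have := (cU u hu).2
        rw [e3.1, e, inv_inv, conj_mul, conj_mul] at this
        exact mem_centralizer_singleton_iff.mpr (by simpa using this)
    obtain ⟨t, e1⟩ := l (conj_mem_cj c (x := φ (e 0)) (mem_cj.mpr (by
      rw [inv_inv, e2, ← m.hz]; exact mem_map_of_mem φ z0_spec.2.2.2.2.1)))
    rcases f64 t (iv e1).1 with e | e | e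
    · refine absurd ?_ tz
      rw [e.resolve_left (iv e1).2, m.hz, eq_mul_inv_iff_mul_eq, ← mem_centralizer_singleton_iff.mp hc] at e1
      exact (mul_left_cancel e1).symm
    · exact ⟨c, hc, (m.iy e).imp e1.symm.trans e1.symm.trans⟩
    refine absurd ((m.big l _ fun x hx => m.inj ?_).trans_lt e) (by rw [card_cj, m.card, cards.2.2.1]; omega)
    obtain ⟨u, hu, e⟩ := mem_cj.mp hx
    have := (cU u hu).1
    rw [e, ← e2, inv_inv, conj_mul, conj_mul, mul_left_inj, mul_right_inj] at this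
    rw [map_mul, map_mul, e1, show φ x = c * (c⁻¹ * φ x * c) * c⁻¹ by group, conj_mul, conj_mul, this]
  obtain ⟨g, u, hu, e1⟩ := H6.thompson_transfer h2 (H := φ.range) (M := U0.map φ) (t := φ (e 0))
    (hr ▸ Nat.odd_iff.mpr (Nat.two_dvd_ne_zero.mp S.not_dvd_index)) (by
      have := relIndex_mul_card_of_le (map_le_range φ U0)
      rw [m.card, MonoidHom.range_eq_map, m.card, card_top, card_R, cards.2.2.1] at this
      rw [MonoidHom.range_eq_map]; omega) ((pow_two _).trans t2)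
  obtain ⟨A, hA, cA⟩ : ∃ A : Subgroup G, A16 A ∧ A ≤ 𝐂[φ (e 0)] := by
    have k : ∀ s, (∀ a ∈ A1, s * a * s⁻¹ * u = u * (s * a * s⁻¹)) → ∃ A : Subgroup G, A16 A ∧ A ≤ 𝐂[φ (e 0)] := fun s h =>
      ⟨cj (g * φ s) (A1.map φ), ⟨fun x hx => by simpa [mul_assoc] using G0.sq_conj (m.a16.sq _ (mem_cj.mp hx)) (g * φ s),
        (card_cj ..).trans m.a16.card⟩, fun x hx => by
          obtain ⟨a, ha, e⟩ := mem_cj.mp hx
          have := congrArg φ (h a ha)
          simp only [map_mul, map_inv, e, e1, mul_inv_rev, mul_assoc, mul_inv_cancel_left, mul_right_inj] at this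
          exact mem_centralizer_singleton_iff.mpr (by simpa [← mul_assoc] using this)⟩
    exact (fU u hu (iv (g := g⁻¹) (by rwa [inv_inv])).1).elim (fun h => k 1 (by simpa using h)) (k _)
  obtain ⟨Q, hQ, l⟩ := exists_isSylowIn_ge (K := 𝐂[φ (e 0)]) (hS.pgroup.to_le (map_le_range φ 𝐂[e 0])) (by
    rintro _ ⟨x, hx, rfl⟩
    exact mem_centralizer_singleton_iff.mpr (by rw [← map_mul, mem_centralizer_singleton_iff.mp hx, map_mul]))
  obtain ⟨c, hc', l1⟩ := B07.exists_cj_le_sylow hQ hA.pg cA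
  obtain ⟨g, -, l2⟩ := B07.exists_cj_le_sylow hS hQ.pgroup le_top
  obtain ⟨t, e1⟩ := l2 (conj_mem_cj g (l (mem_map_of_mem φ (mem_centralizer_singleton_iff.mpr rfl))))
  obtain ⟨y, e2⟩ := l2 (conj_mem_cj g (l (mem_map_of_mem φ (mem_centralizer_singleton_iff.mpr e4.2.2.2.2.2.2.1))))
  have e3 := sq e2
  rcases f16 t (fE t y (iv e1).1 (m.inj (by rw [map_mul, map_mul, e1, e2, conj_mul, conj_mul, x1])) fun e =>
    c1 m.z1 (by rw [← e3.1, e, map_one])) (iv e1).1 with e | e | e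
  · exact absurd ⟨g, by rw [← e1, e.resolve_left (iv e1).2, m.hz]⟩ hc
  · refine ⟨g, mem_centralizer_singleton_iff.mpr (mul_inv_eq_iff_eq_mul.mp ?_), (m.iy e).imp e1.symm.trans e1.symm.trans⟩
    rcases e3.2 with e5 | e5
    · rw [← e3.1, e5, m.hz]
    obtain ⟨s, e6⟩ : ∃ s, s * t * s⁻¹ = y * y := (by decide +kernel : ∀ t, iY t → ∀ y, iY y → ∃ s, s * t * s⁻¹ = y) t e _ e5
    refine absurd ⟨g⁻¹ * φ s * g, ?_⟩ hc
    have := congrArg φ e6
    rw [e3.1, map_mul, map_mul, e1, map_inv] at this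
    rw [show z = g⁻¹ * (g * z * g⁻¹) * g by group, ← this]; group
  refine absurd ((m.big (P := cj c A) (g := g) ((cj_mono g l1).trans l2) _ fun x hx => ⟨m.inj ?_, m.inj ?_⟩).trans_lt e)
    (by rw [card_cj, hA.card]; omega)
  · simpa [mul_assoc] using G0.sq_conj (G0.sq_conj (hA.sq _ (mem_cj.mp hx)) c) g
  · rw [map_mul, map_mul, e1, show φ x = g * (g⁻¹ * φ x * g) * g⁻¹ by group, conj_mul, conj_mul,
      mem_centralizer_singleton_iff.mp (hQ.le (l1 hx))]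

theorem Em.quot (m : Em φ z) (hS : IsSylowIn 2 φ.range 𝐂[z]) (hg : g ∈ 𝐂[z]) (hr : Rl φ z g 0 4) :
    Nat.card (𝐂[z] ⧸ pPrimeCore 2 𝐂[z]) = 1920 ∧ ∃ ψ : R →* 𝐂[z] ⧸ pPrimeCore 2 𝐂[z], ∃ K, Fm ψ K := by
  let π := QuotientGroup.mk' (pPrimeCore 2 𝐂[z])
  let φ' : R →* 𝐂[z] := φ.codRestrict _ fun x => hS.le ⟨x, rfl⟩
  have zz : z ∈ 𝐂[z] := mem_centralizer_singleton_iff.mpr rfl
  have cz : ∀ g, g * π ⟨z, zz⟩ = π ⟨z, zz⟩ * g := fun g => by
    obtain ⟨g, rfl⟩ := QuotientGroup.mk'_surjective _ g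
    rw [← map_mul, ← map_mul]
    exact congrArg π (Subtype.ext (mem_centralizer_singleton_iff.mp g.2))
  have n : Em (π.comp φ') (π ⟨z, zz⟩) := ⟨(injective_iff_map_eq_one _).mpr fun x hx => by
    have h1 : orderOf (φ' x) ∣ 2 ^ 7 := (orderOf_map_dvd φ' x).trans (by
      rw [show 2 ^ 7 = Nat.card R from card_R.symm]; exact orderOf_dvd_natCard x)
    have h2 := orderOf_dvd_natCard _ ((QuotientGroup.eq_one_iff _).mp hx)
    exact m.inj ((congrArg Subtype.val (orderOf_eq_one_iff.mp (Nat.eq_one_of_dvd_coprimes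
      (card_pPrimeCore_coprime.pow_right 7) h2 h1))).trans φ.map_one.symm), congrArg π (Subtype.ext m.hz)⟩
  have sy : IsSylowIn 2 (π.comp φ').range ⊤ := by
    have := (isSylowIn_top hS.toSylow).map π
    rwa [← MonoidHom.range_eq_map, MonoidHom.range_eq_top.mpr (QuotientGroup.mk'_surjective _), hS.coe_toSylow,
      show φ.range.subgroupOf _ = φ'.range from ext fun x => ⟨fun ⟨y, e⟩ => ⟨y, Subtype.ext e⟩,
        fun ⟨y, e⟩ => ⟨y, congrArg Subtype.val e⟩⟩, MonoidHom.map_range] at this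
  have := Hz.fm (g := π ⟨g, hg⟩) ⟨cz, fun P hP => ?_⟩ pPrimeCore_quotient_pPrimeCore n (hr.imp (fun e => ?_) fun e => ?_)
  · exact ⟨this.1, _, this.2⟩
  · obtain ⟨c, -, l⟩ := B07.exists_cj_le_sylow sy hP le_top
    refine ⟨(MulAut.conj c⁻¹).toMonoidHom.comp (π.comp φ'), ⟨(MulAut.conj c⁻¹).injective.comp n.inj, ?_⟩, fun x hx => ?_⟩
    · rw [MonoidHom.comp_apply, n.hz]
      exact mul_inv_eq_of_eq_mul (cz _)
    · obtain ⟨y, e⟩ := l (conj_mem_cj c hx)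
      exact ⟨y, by rw [MonoidHom.comp_apply, e]; simp [mul_assoc]⟩
  · simpa only [map_mul, map_inv, MonoidHom.comp_apply] using congrArg π (Subtype.ext e : ⟨g, hg⟩ * φ' _ * (⟨g, hg⟩ : 𝐂[z])⁻¹ = φ' _)
  · simpa only [map_mul, map_inv, MonoidHom.comp_apply] using congrArg π (Subtype.ext e : ⟨g, hg⟩ * φ' _ * (⟨g, hg⟩ : 𝐂[z])⁻¹ = ⟨z, zz⟩ * φ' _)

end Cfsg.Agent.H1.JR
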