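import Cfsg.Agent.S3171

/-! The action of `T = UT₅(2)/Z` on its abelian subgroup of order 64. -/

set_option autoImplicit false

namespace Cfsg.Agent.H1.MQ

open Subgroup Cfsg.Agent.S3171
open scoped commutatorElement

def cmm (p q r : ZMod 2) (a : T) : T :=
  ⟨0, 0, 0, 0, p * a.a1, 0, q * a.a4, a.a1 * r + a.b1 * q + p * q * a.a1, p * a.b3 + r * a.a4⟩

theorem cf (s : T) {a : T} (ha : a ∈ pD.ker) : ⁅s, a⁆ = cmm s.a2 s.a3 s.b2 a := by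
  obtain ⟨h1, h2, h3⟩ := mem_ker_pD.mp ha
  have h : (2 : ZMod 2) = 0 := rfl
  rw [commutatorElement_def, mul_assoc (s * a), ← mul_inv_rev, mul_inv_eq_iff_eq_mul]
  ext <;> simp only [T.mul_def, cmm, h1, h2, h3] <;> ring_nf <;> simp [h]

theorem cmm_mem (p q r : ZMod 2) (a : T) : cmm p q r a ∈ pD.ker := mem_ker_pD.mpr ⟨rfl, rfl, rfl⟩

theorem sq0 {s : T} (h : s * s ∈ pD.ker) : s.a2 * s.a3 = 0 := by
  simpa [T.mul_def, CharTwo.add_self_eq_zero] using (mem_ker_pD.mp h).2.2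

theorem cnt : ∀ p q r : ZMod 2, ¬ (p = 0 ∧ q = 0 ∧ r = 0) → p * q = 0 → (Finset.univ.filter fun v : T =>
    (v.a2 = 0 ∧ v.a3 = 0 ∧ v.b2 = 0) ∧ cmm p q r v = 1).card = 16 := by decide +kernel

theorem c16 {s : T} (h : s ∉ pD.ker) (h2 : s * s = 1) : Nat.card (pD.ker ⊓ centralizer {s} : Subgroup T) = 16 := by
  rw [← cnt _ _ _ (mt mem_ker_pD.mpr h) (sq0 (h2 ▸ one_mem _))]
  refine Nat.subtype_card _ fun v => ?_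
  rw [Finset.mem_filter, ← mem_ker_pD, mem_inf, mem_centralizer_singleton_iff, eq_comm (a := v * s),
    ← commutatorElement_eq_one_iff_mul_comm]
  exact ⟨fun e => ⟨e.2.1, cf s e.2.1 ▸ e.2.2⟩, fun e => ⟨Finset.mem_univ _, e.1, cf s e.1 ▸ e.2⟩⟩

theorem m1 : ta1 ∈ pD.ker := mem_ker_pD.mpr ⟨rfl, rfl, rfl⟩
theorem m4 : ta4 ∈ pD.ker := mem_ker_pD.mpr ⟨rfl, rfl, rfl⟩

theorem cent {s : T} (h : ∀ a ∈ pD.ker, ⁅s, a⁆ = 1) : s ∈ pD.ker := by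
  have h1 := (cf s m1).symm.trans (h _ m1)
  have h2 := (cf s m4).symm.trans (h _ m4)
  exact mem_ker_pD.mpr ⟨by simpa [cmm, ta1, T.one_def] using congrArg T.b1 h1, by
    simpa [cmm, ta4, T.one_def] using congrArg T.b3 h2, by simpa [cmm, ta4, T.one_def] using congrArg T.c2 h2⟩

theorem quad {x y a : T} (hx : x * x = 1) (hy : y * y = 1) (h : x * y = y * x) (ha : a ∈ pD.ker) :
    ⁅y, ⁅x, a⁆⁆ = 1 := by
  have h1 := sq0 (hx ▸ one_mem _)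
  have h2 := sq0 (hy ▸ one_mem _)
  have h3 := congrArg T.b2 h
  rw [T.mul_def, T.mul_def, add_comm x.b2, add_right_inj] at h3
  have : ∀ p q p' q' : ZMod 2, p * q = 0 → p' * q' = 0 → p * q' = p' * q → p * q' = 0 ∧ p' * q = 0 := by decide
  obtain ⟨h4, h5⟩ := this _ _ _ _ h1 h2 h3
  rw [cf x ha, cf y (cmm_mem _ _ _ _)]
  ext <;> simp only [cmm, T.one_def, mul_right_comm x.a2 a.a1, ← mul_assoc y.a2, h4, h5, mul_zero, zero_mul, add_zero]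

theorem img0 : ∀ p q r p' q' r' : ZMod 2, p * q = 0 → p' * q' = 0 → (∀ a1 a4 b1 b3, ∃ a1' a4' b1' b3',
    cmm p q r ⟨a1, 0, 0, a4, b1, 0, b3, 0, 0⟩ = cmm p' q' r' ⟨a1', 0, 0, a4', b1', 0, b3', 0, 0⟩) →
    (p = 0 ∧ q = 0 ∧ r = 0) ∨ p = p' ∧ q = q' ∧ r = r' := by decide +kernel

theorem img {x y : T} (hx : ∀ a ∈ pD.ker, ⁅x, ⁅x, a⁆⁆ = 1) (hy : ∀ a ∈ pD.ker, ⁅y, ⁅y, a⁆⁆ = 1)
    (h : ∀ a ∈ pD.ker, ∃ b ∈ pD.ker, ⁅x, a⁆ = ⁅y, b⁆) : x ∈ pD.ker ∨ ∀ a ∈ pD.ker, ⁅x, a⁆ = ⁅y, a⁆ := by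
  have k : ∀ x : T, (∀ a ∈ pD.ker, ⁅x, ⁅x, a⁆⁆ = 1) → x.a2 * x.a3 = 0 := fun x hx => by
    have := hx ta1 m1
    rw [cf x m1, cf x (cmm_mem _ _ _ _)] at this
    simpa [cmm, ta1, T.one_def] using congrArg T.c1 this
  refine (img0 _ _ x.b2 _ _ y.b2 (k x hx) (k y hy) fun a1 a4 b1 b3 => ?_).imp mem_ker_pD.mpr fun e a ha => by
    rw [cf x ha, cf y ha, e.1, e.2.1, e.2.2]
  obtain ⟨b, hb, e⟩ := h ⟨a1, 0, 0, a4, b1, 0, b3, 0, 0⟩ (mem_ker_pD.mpr ⟨rfl, rfl, rfl⟩)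
  rw [cf x (mem_ker_pD.mpr ⟨rfl, rfl, rfl⟩), cf y hb] at e
  exact ⟨b.a1, b.a4, b.b1, b.b3, e⟩

def tx : T := ⟨0, 1, 1, 0, 0, 0, 0, 0, 0⟩

theorem tx4 : tx * tx * (tx * tx) = 1 := by decide

theorem tx3 {a : T} (ha : a ∈ pD.ker) : ⁅tx, ⁅tx * tx, a⁆⁆ = 1 := by
  rw [cf _ ha, cf _ (cmm_mem _ _ _ _)]
  ext <;> simp [cmm, tx, T.one_def, T.mul_def, CharTwo.add_self_eq_zero]

theorem tx1 {b : T} (hb : b ∈ pD.ker) (h : ⁅tx * tx, b⁆ = 1) : ∃ a ∈ pD.ker, b = ⁅tx, a⁆ := by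
  refine ⟨⟨b.b1, 0, 0, b.b3, b.c1 + b.b1, 0, b.c2, 0, 0⟩, mem_ker_pD.mpr ⟨rfl, rfl, rfl⟩, ?_⟩
  rw [cf _ hb] at h
  have h1 := congrArg T.c1 h
  have h2 := congrArg T.c2 h
  obtain ⟨h3, h4, h5⟩ := mem_ker_pD.mp hb
  rw [cf _ (mem_ker_pD.mpr ⟨rfl, rfl, rfl⟩)]
  simp [cmm, tx, T.one_def, T.mul_def, CharTwo.add_self_eq_zero] at h1 h2
  ext <;> simp [cmm, tx, h1, h2, h3, h4, h5, add_assoc, CharTwo.add_self_eq_zero]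

end Cfsg.Agent.H1.MQ
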