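import Cfsg.Agent.H1.Heis
import Cfsg.Agent.H1.U3b
import Cfsg.Agent.H1.F4

set_option autoImplicit false
set_option linter.unusedSectionVars false

namespace Cfsg.Agent.H1.Squares

theorem comm_of_sq {B : Type*} [Group B] (hB : ∀ b : B, b * b = 1) (a b : B) : a * b = b * a := by
  have h : ∀ x : B, x⁻¹ = x := fun x => inv_eq_of_mul_eq_one_right (hB x)
  rw [← h (a * b), mul_inv_rev, h, h]

/-- an injective homomorphism into an elementary abelian 2-group splits -/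
theorem exists_leftInv {B E : Type*} [Group B] [Group E] (hB : ∀ b : B, b * b = 1) (i : E →* B)
    (hi : Function.Injective i) : ∃ r : B →* E, ∀ e, r (i e) = e := by
  have hE : ∀ e : E, e * e = 1 := fun e => hi (by rw [map_mul, hB, map_one])
  letI : CommGroup B := { (inferInstance : Group B) with mul_comm := comm_of_sq hB }
  letI : CommGroup E := { (inferInstance : Group E) with mul_comm := comm_of_sq hE }
  letI : Module (ZMod 2) (Additive B) := AddCommGroup.zmodModule (fun x => by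
    rw [two_nsmul]; exact hB x)
  letI : Module (ZMod 2) (Additive E) := AddCommGroup.zmodModule (fun x => by
    rw [two_nsmul]; exact hE x)
  haveI : Fact (Nat.Prime 2) := ⟨Nat.prime_two⟩
  let f : Additive E →ₗ[ZMod 2] Additive B := (MonoidHom.toAdditive i).toZModLinearMap 2
  obtain ⟨g, hg⟩ := f.exists_leftInverse_of_injective (LinearMap.ker_eq_bot.mpr hi)
  exact ⟨AddMonoidHom.toMultiplicative g.toAddMonoidHom, fun e => LinearMap.congr_fun hg e⟩

/-- a central extension of an elementary abelian 2-group `A` by `K` with squaring map `s` -/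
structure Ext {Q A K : Type*} [Group Q] [AddCommGroup A] [AddCommGroup K] (s : A → K)
    (π : Q → A) (z : K → Q) : Prop where
  πmul : ∀ u v, π (u * v) = π u + π v
  πsurj : Function.Surjective π
  zadd : ∀ x y, z (x + y) = z x * z y
  zinj : Function.Injective z
  zc : ∀ x u, u * z x = z x * u
  ker : ∀ u, π u = 0 ↔ ∃ x, u = z x
  sq : ∀ u, u * u = z (s (π u))

section
variable {A K : Type*} [AddCommGroup A] [AddCommGroup K] {s : A → K}

theorem Ext.z0 {Q : Type*} [Group Q] {π : Q → A} {z : K → Q} (h : Ext s π z) : z 0 = 1 := by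
  have := h.zadd 0 0; rw [add_zero] at this; exact mul_eq_left.mp this.symm

theorem Ext.π1 {Q : Type*} [Group Q] {π : Q → A} {z : K → Q} (h : Ext s π z) : π 1 = 0 :=
  (h.ker 1).mpr ⟨0, h.z0.symm⟩

theorem Ext.πinv {Q : Type*} [Group Q] {π : Q → A} {z : K → Q} (h : Ext s π z) (u : Q) :
    π u⁻¹ = - π u := by
  have := h.πmul u⁻¹ u
  rw [inv_mul_cancel, h.π1] at this
  exact eq_neg_of_add_eq_zero_left this.symm

theorem Ext.zneg {Q : Type*} [Group Q] {π : Q → A} {z : K → Q} (h : Ext s π z) (x : K) :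
    z (-x) = (z x)⁻¹ := by
  apply eq_inv_of_mul_eq_one_left
  rw [← h.zadd, neg_add_cancel, h.z0]

/-- the squaring map determines the extension -/
theorem Ext.nonempty_equiv {Q₁ Q₂ : Type*} [Group Q₁] [Group Q₂] {π₁ : Q₁ → A} {z₁ : K → Q₁}
    {π₂ : Q₂ → A} {z₂ : K → Q₂} (h₁ : Ext s π₁ z₁) (h₂ : Ext s π₂ z₂) : Nonempty (Q₁ ≃* Q₂) := by
  let H : Subgroup (Q₁ × Q₂) :=
    { carrier := {p | π₁ p.1 = π₂ p.2}
      mul_mem' := fun {a b} ha hb => by
        change π₁ (a.1 * b.1) = π₂ (a.2 * b.2)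
        rw [h₁.πmul, h₂.πmul, show π₁ a.1 = _ from ha, show π₁ b.1 = _ from hb]
      one_mem' := by change π₁ 1 = π₂ 1; rw [h₁.π1, h₂.π1]
      inv_mem' := fun {a} ha => by
        change π₁ a.1⁻¹ = π₂ a.2⁻¹
        rw [h₁.πinv, h₂.πinv, show π₁ a.1 = _ from ha] }
  have hz : ∀ x y, (z₁ x, z₂ y) ∈ H := fun x y => by
    change π₁ (z₁ x) = π₂ (z₂ y)
    rw [(h₁.ker _).mpr ⟨x, rfl⟩, (h₂.ker _).mpr ⟨y, rfl⟩]
  let d : Multiplicative K →* H := MonoidHom.mk' (fun x => ⟨(z₁ x.toAdd, z₂ x.toAdd), hz _ _⟩)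
    (fun a b => Subtype.ext (Prod.ext (h₁.zadd _ _) (h₂.zadd _ _)))
  let e : Multiplicative K →* H := MonoidHom.mk' (fun x => ⟨(z₁ x.toAdd, z₂ 0), hz _ _⟩)
    (fun a b => Subtype.ext (Prod.ext (h₁.zadd _ _) (by
      change z₂ 0 = z₂ 0 * z₂ 0; rw [← h₂.zadd, add_zero])))
  haveI : d.range.Normal := ⟨by
    rintro _ ⟨x, rfl⟩ g
    refine ⟨x, Subtype.ext (Prod.ext ?_ ?_)⟩
    · change z₁ _ = g.1.1 * z₁ _ * g.1.1⁻¹
      rw [h₁.zc, mul_inv_cancel_right]
    · change z₂ _ = g.1.2 * z₂ _ * g.1.2⁻¹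
      rw [h₂.zc, mul_inv_cancel_right]⟩
  have hB : ∀ b : H ⧸ d.range, b * b = 1 := by
    intro b
    obtain ⟨g, rfl⟩ := QuotientGroup.mk_surjective b
    rw [← QuotientGroup.mk_mul, QuotientGroup.eq_one_iff]
    refine ⟨Multiplicative.ofAdd (s (π₁ g.1.1)), Subtype.ext (Prod.ext (h₁.sq _).symm ?_)⟩
    change z₂ (s (π₁ g.1.1)) = g.1.2 * g.1.2
    rw [h₂.sq, show π₁ g.1.1 = _ from g.2]
  obtain ⟨r, hr⟩ := exists_leftInv hB ((QuotientGroup.mk' d.range).comp e) (by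
    rw [injective_iff_map_eq_one]
    intro x hx
    obtain ⟨y, hy⟩ := (QuotientGroup.eq_one_iff _).mp hx
    have e1 : z₁ y.toAdd = z₁ x.toAdd := congrArg (fun g : H => g.1.1) hy
    have e2 : z₂ y.toAdd = z₂ 0 := congrArg (fun g : H => g.1.2) hy
    have := h₁.zinj e1
    rw [h₂.zinj e2] at this
    exact this.symm)
  let r' : H →* Multiplicative K := r.comp (QuotientGroup.mk' d.range)
  have hre : ∀ x, r' (e x) = x := hr
  have hrd : ∀ x, r' (d x) = 1 := fun x => by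
    change r (QuotientGroup.mk (d x)) = 1
    rw [(QuotientGroup.eq_one_iff (N := d.range) (d x)).mpr ⟨x, rfl⟩, map_one]
  have hrz : ∀ x y, r' ⟨(z₁ x, z₂ y), hz x y⟩ = Multiplicative.ofAdd (x - y) := by
    intro x y
    have : (⟨(z₁ x, z₂ y), hz x y⟩ : H) = e (Multiplicative.ofAdd (x - y)) * d (Multiplicative.ofAdd y) := by
      refine Subtype.ext (Prod.ext ?_ ?_)
      · change z₁ x = z₁ (x - y) * z₁ y
        rw [← h₁.zadd, sub_add_cancel]
      · change z₂ y = z₂ 0 * z₂ y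
        rw [← h₂.zadd, zero_add]
    rw [this, map_mul, hre, hrd, mul_one]
  let R : Q₁ → Q₂ → Prop := fun a b => ∃ h : (a, b) ∈ H, r' ⟨(a, b), h⟩ = 1
  have hmul : ∀ a b x y, R a x → R b y → R (a * b) (x * y) := by
    rintro a b x y ⟨ha, ha'⟩ ⟨hb, hb'⟩
    refine ⟨H.mul_mem ha hb, ?_⟩
    have := map_mul r' ⟨_, ha⟩ ⟨_, hb⟩
    rw [ha', hb', mul_one] at this
    exact this
  have hinv : ∀ a x, R a x → R a⁻¹ x⁻¹ := by
    rintro a x ⟨ha, ha'⟩
    refine ⟨H.inv_mem ha, ?_⟩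
    have := map_inv r' ⟨_, ha⟩
    rw [ha', inv_one] at this
    exact this
  have hboth : ∀ a x, (a, x) ∈ H → ∃ t, R a (x * z₂ t) ∧ R (a * z₁ (-t)) x := by
    intro a x h
    refine ⟨(r' ⟨_, h⟩).toAdd, ⟨?_, ?_⟩, ⟨?_, ?_⟩⟩
    · simpa [h₁.z0] using H.mul_mem h (hz 0 (r' ⟨_, h⟩).toAdd)
    · have := map_mul r' ⟨_, h⟩ ⟨_, hz 0 (r' ⟨_, h⟩).toAdd⟩
      rw [hrz, zero_sub, ofAdd_neg, ofAdd_toAdd, mul_inv_cancel] at this
      rw [← this]; congr 1
      exact Subtype.ext (Prod.ext (by simp [h₁.z0]) rfl)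
    · simpa [h₂.z0] using H.mul_mem h (hz (-(r' ⟨_, h⟩).toAdd) 0)
    · have := map_mul r' ⟨_, h⟩ ⟨_, hz (-(r' ⟨_, h⟩).toAdd) 0⟩
      rw [hrz, sub_zero, ofAdd_neg, ofAdd_toAdd, mul_inv_cancel] at this
      rw [← this]; congr 1
      exact Subtype.ext (Prod.ext rfl (by simp [h₂.z0]))
  have h1 : ∀ a x, R a x → (a = 1 ↔ x = 1) := by
    rintro a x ⟨h, h'⟩
    have h0 : π₁ a = π₂ x := h
    have key : π₁ a = 0 → (a = 1 ↔ x = 1) := by
      intro ha
      obtain ⟨t, rfl⟩ := (h₁.ker a).mp ha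
      obtain ⟨t', rfl⟩ := (h₂.ker x).mp (h0 ▸ ha)
      rw [hrz] at h'
      have : t = t' := sub_eq_zero.mp h'
      subst this
      rw [← h₁.z0, ← h₂.z0, h₁.zinj.eq_iff, h₂.zinj.eq_iff]
    constructor
    · intro ha; exact (key (by rw [ha, h₁.π1])).mp ha
    · intro hx; exact (key (by rw [h0, hx, h₂.π1])).mpr hx
  obtain ⟨f, hf⟩ := exists_hom_of_rel R (fun a => by
      obtain ⟨x, hx⟩ := h₂.πsurj (π₁ a)
      obtain ⟨t, ht, -⟩ := hboth a x hx.symm
      exact ⟨_, ht⟩) hmul (fun a x y hx hy => by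
      have := (h1 _ _ (hmul _ _ _ _ (hinv _ _ hx) hy)).mp (inv_mul_cancel a)
      exact inv_mul_eq_one.mp this)
  refine ⟨MulEquiv.ofBijective f ⟨?_, fun x => ?_⟩⟩
  · rw [injective_iff_map_eq_one]
    intro a ha
    exact (h1 a 1 ((hf a 1).mpr ha)).mpr rfl
  · obtain ⟨a, ha⟩ := h₁.πsurj (π₂ x)
    obtain ⟨t, -, ht⟩ := hboth a x ha
    exact ⟨_, (hf _ _).mp ht⟩

end

section models
variable {K : Type*} [Field K]

open Heis in
theorem ext_HS (h2 : (2 : K) = 0) : Ext (fun p : K × K => p.1 * p.2) (fun u : HS K => (u.a, u.b))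
    (fun x => ⟨0, 0, x⟩) where
  πmul u v := rfl
  πsurj p := ⟨⟨p.1, p.2, 0⟩, rfl⟩
  zadd x y := by ext <;> simp
  zinj x y h := congrArg HS.c h
  zc x u := by ext <;> simp [add_comm]
  ker u := ⟨fun h => ⟨u.c, HS.ext (congrArg Prod.fst h) (congrArg Prod.snd h) rfl⟩,
    by rintro ⟨x, rfl⟩; rfl⟩
  sq u := by
    ext
    · simp only [mul_a]; linear_combination u.a * h2
    · simp only [mul_b]; linear_combination u.b * h2
    · simp only [mul_c]; linear_combination u.c * h2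

/-- split case -/
theorem nonempty_equiv_HS {Q : Type*} [Group Q] (h2 : (2 : K) = 0) {b r : K} (hr : r ^ 2 = b + r)
    {π : Q → K × K} {z : K → Q} (h : Ext (fun p : K × K => p.1 ^ 2 + p.1 * p.2 + b * p.2 ^ 2) π z) :
    Nonempty (Q ≃* Heis.HS K) := by
  refine Ext.nonempty_equiv (π₁ := fun u => ((π u).1 + r * (π u).2, (π u).1 + (r + 1) * (π u).2))
    (z₁ := z) ⟨?_, ?_, h.zadd, h.zinj, h.zc, ?_, ?_⟩ (ext_HS h2)
  · intro u v
    rw [h.πmul]; ext <;> simp <;> ring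
  · intro p
    obtain ⟨u, hu⟩ := h.πsurj (p.1 + r * (p.1 + p.2), p.1 + p.2)
    refine ⟨u, ?_⟩
    simp only [hu]
    ext
    · simp only; linear_combination (r * (p.1 + p.2)) * h2
    · simp only; linear_combination (r * (p.1 + p.2) + p.1) * h2
  · intro u
    rw [← h.ker]
    constructor
    · intro h0
      have e1 : (π u).1 + r * (π u).2 = 0 := congrArg Prod.fst h0
      have e2 : (π u).1 + (r + 1) * (π u).2 = 0 := congrArg Prod.snd h0
      have e3 : (π u).2 = 0 := by linear_combination e2 - e1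
      ext
      · rw [e3] at e1; simpa using e1
      · exact e3
    · intro h0; simp [h0]
  · intro u
    rw [h.sq]; congr 1
    simp only
    linear_combination (-(π u).2 ^ 2) * hr - (r * (π u).1 * (π u).2 + r * (π u).2 ^ 2) * h2

end models

open QuadraticAlgebra in
/-- non-split case -/
theorem nonempty_equiv_PSU {K : Type} [Field K] [Fintype K] {n : ℕ} (hn : 1 ≤ n)
    (hK : Fintype.card K = 2 ^ n) {Q : Type*} [Group Q] (h2 : (2 : K) = 0) {b : K}
    (hr : ∀ r : K, r ^ 2 ≠ b + 1 * r)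
    {π : Q → K × K} {z : K → Q} (h : Ext (fun p : K × K => p.1 ^ 2 + p.1 * p.2 + b * p.2 ^ 2) π z) :
    ∃ (F : Type) (_ : Field F) (_ : Fintype F), Fintype.card F = 4 ^ n ∧
      ∃ S : Sylow 2 (Cfsg.PSU 3 F (2 ^ n)), Nonempty (Q ≃* ↥(S : Subgroup (Cfsg.PSU 3 F (2 ^ n)))) := by
  haveI : Fact (∀ r : K, r ^ 2 ≠ b + 1 * r) := ⟨hr⟩
  letI : Fintype (QuadraticAlgebra K b 1) := Fintype.ofEquiv _ (equivProd b 1).symm
  have hF : Fintype.card (QuadraticAlgebra K b 1) = 4 ^ n := by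
    rw [Fintype.card_congr (equivProd b 1), Fintype.card_prod, hK, ← mul_pow]; rfl
  obtain ⟨σ, hσ, hq⟩ := U3.exists_ctx hn hF
  have hst : ∀ x : QuadraticAlgebra K b 1, σ x = star x := by
    let τ : RingAut (QuadraticAlgebra K b 1) := starRingAut
    have hτ : ∀ x, τ x = star x := fun x => rfl
    have h1 : τ ≠ 1 := by
      intro h
      have := congrArg QuadraticAlgebra.re (hτ ω)
      rw [h] at this
      simp at this
    rcases U3.eq_one_or_sig (σ := σ) τ (by ext x <;> simp [sq, hτ]) with h | h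
    · exact absurd h h1
    · intro x; rw [← hτ, h]; rfl
  obtain ⟨S⟩ : Nonempty (Sylow 2 (Cfsg.PSU 3 (QuadraticAlgebra K b 1) (2 ^ n))) := inferInstance
  obtain ⟨e⟩ := U3.nonempty_sylow_PSU_equiv hq S
  refine ⟨QuadraticAlgebra K b 1, inferInstance, inferInstance, hF, S, ?_⟩
  have hfix : ∀ x : K, σ ⟨x, 0⟩ = ⟨x, 0⟩ := fun x => by rw [hst]; ext <;> simp
  have h' : Ext (fun p : K × K => p.1 ^ 2 + p.1 * p.2 + b * p.2 ^ 2)
      (fun u : U3.US σ => (u.a.re, u.a.im)) (fun x => U3.zz ⟨x, 0⟩ (hfix x)) := by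
    refine ⟨fun u v => rfl, fun p => ⟨U3.lift σ ⟨p.1, p.2⟩, by simp⟩, ?_, ?_, ?_, ?_, ?_⟩
    · intro x y; ext <;> simp
    · intro x y h; exact congrArg (fun u : U3.US σ => u.b.re) h
    · intro x u; exact Subgroup.mem_center_iff.mp (U3.mem_center_iff.mpr rfl) u
    · intro u
      constructor
      · intro h0
        have ha : u.a = 0 := QuadraticAlgebra.ext (congrArg Prod.fst h0) (congrArg Prod.snd h0)
        have hb := congrArg QuadraticAlgebra.re (U3.fixed_of_a ha)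
        rw [hst] at hb
        refine ⟨u.b.re, U3.US.ext ha (QuadraticAlgebra.ext rfl ?_)⟩
        simpa using hb
      · rintro ⟨x, rfl⟩; rfl
    · intro u
      refine U3.US.ext (U3.sq_a u) ?_
      rw [U3.sq_b, hst]
      ext
      · simp; linear_combination (- b * u.a.im ^ 2) * h2
      · simp; ring
  obtain ⟨e'⟩ := h.nonempty_equiv h'
  exact ⟨e'.trans e.symm⟩

end Cfsg.Agent.H1.Squares
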