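import Cfsg.Agent.H1.Singer
import Cfsg.Agent.H1.Squares
import Cfsg.Agent.H5.PBasic

set_option autoImplicit false
set_option linter.unusedSectionVars false

namespace Cfsg.Agent.H1.SingInv

open scoped commutatorElement
open Singer

universe u

variable {K : Type*} [Field K]

/-- the field data -/
structure Fld (l : K) (n : ℕ) : Prop where
  two : (2 : K) = 0
  gen : ∀ t : K, t ≠ 0 → ∃ k : ℕ, t = l ^ k
  pos : 1 ≤ n

/-- a 2-group with an involutory automorphism `α` and a commuting automorphism `ρ` acting on the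
fixed points of `α` as a Singer cycle -/
structure Hyp {Q : Type u} [Group Q] (l : K) (n : ℕ) (α ρ : Q →* Q) (z : K → Q) : Prop where
  p : IsPGroup 2 Q
  αα : ∀ u, α (α u) = u
  comm : ∀ u, α (ρ u) = ρ (α u)
  ρpow : ∀ u, ρ^[2 ^ n] u = ρ u
  ρsurj : Function.Surjective ρ
  zadd : ∀ x y, z (x + y) = z x * z y
  zinj : Function.Injective z
  zρ : ∀ x, ρ (z x) = z (l * x)
  fix : ∀ u, α u = u ↔ ∃ x, u = z x

theorem exists_fixed {Q : Type*} [Group Q] [Finite Q] [Nontrivial Q] (h : IsPGroup 2 Q)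
    (α : Q →* Q) (hα : ∀ u, α (α u) = u) : ∃ w, w ≠ 1 ∧ w ∈ Subgroup.center Q ∧ α w = w := by
  haveI : Fact (Nat.Prime 2) := ⟨Nat.prime_two⟩
  obtain ⟨w, -, h1, h2⟩ := H5.exists_mem_center_of_normal h (N := ⊤) top_ne_bot
  have hw : w ≠ 1 := by rintro rfl; simp at h1
  have hww : w * w = 1 := by rw [← sq, ← h1, pow_orderOf_eq_one]
  by_cases h3 : α w = w
  · exact ⟨w, hw, h2, h3⟩
  have h4 : α w ∈ Subgroup.center Q := by
    rw [Subgroup.mem_center_iff] at h2 ⊢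
    intro g
    rw [← hα g, ← map_mul, ← map_mul, h2]
  refine ⟨w * α w, fun h => h3 ?_, mul_mem h2 h4, ?_⟩
  · exact mul_left_cancel (h.trans hww.symm)
  · rw [map_mul, hα, Subgroup.mem_center_iff.mp h2]

section hyp
variable {Q : Type u} [Group Q] [Finite Q] {l : K} {n : ℕ} {α ρ : Q →* Q} {z : K → Q}

theorem Hyp.z0 (h : Hyp l n α ρ z) : z 0 = 1 := by
  have := h.zadd 0 0; rw [add_zero] at this; exact mul_eq_left.mp this.symm

theorem Hyp.zz (hF : Fld l n) (h : Hyp l n α ρ z) (x : K) : z x * z x = 1 := by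
  rw [← h.zadd, ← h.z0]; congr 1; linear_combination x * hF.two

theorem Hyp.αz (h : Hyp l n α ρ z) (x : K) : α (z x) = z x := (h.fix _).mpr ⟨x, rfl⟩

theorem Hyp.all (hF : Fld l n) (h : Hyp l n α ρ z) (S : Q → Prop) (hρ : ∀ u, S u → S (ρ u))
    (h1 : S 1) {x : K} (hx : z x ≠ 1) (hS : S (z x)) (y : K) : S (z y) := by
  have hx0 : x ≠ 0 := by rintro rfl; exact hx h.z0
  by_cases hy : y = 0
  · rw [hy, h.z0]; exact h1
  obtain ⟨k, hk⟩ := hF.gen (y / x) (div_ne_zero hy hx0)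
  have : y = l ^ k * x := by rw [← hk]; field_simp
  rw [this]
  clear this hk
  induction k with
  | zero => simpa using hS
  | succ k ih => rw [pow_succ', mul_assoc, ← h.zρ]; exact hρ _ ih

theorem Hyp.zc (hF : Fld l n) (h : Hyp l n α ρ z) (x : K) : z x ∈ Subgroup.center Q := by
  haveI : Nontrivial Q := h.zinj.nontrivial
  obtain ⟨w, h1, h2, h3⟩ := exists_fixed h.p α h.αα
  obtain ⟨t, rfl⟩ := (h.fix w).mp h3
  refine h.all hF (· ∈ Subgroup.center Q) ?_ (one_mem _) h1 h2 x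
  intro u hu
  rw [Subgroup.mem_center_iff] at hu ⊢
  intro g
  obtain ⟨g, rfl⟩ := h.ρsurj g
  rw [← map_mul, ← map_mul, hu]

/-- fixed points -/
def fixS (α : Q →* Q) : Subgroup Q := α.eqLocus (MonoidHom.id Q)

theorem mem_fixS {u : Q} : u ∈ fixS α ↔ α u = u := Iff.rfl

theorem Hyp.mem (h : Hyp l n α ρ z) {u : Q} : u ∈ fixS α ↔ ∃ x, u = z x := h.fix u

theorem Hyp.le_center (hF : Fld l n) (h : Hyp l n α ρ z) : fixS α ≤ Subgroup.center Q := by
  intro u hu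
  obtain ⟨x, rfl⟩ := h.mem.mp hu
  exact h.zc hF x

theorem Hyp.normal (hF : Fld l n) (h : Hyp l n α ρ z) : (fixS α).Normal :=
  ⟨fun u hu g => by rw [Subgroup.mem_center_iff.mp (h.le_center hF hu) g, mul_inv_cancel_right]; exact hu⟩

theorem Hyp.quot (hF : Fld l n) (h : Hyp l n α ρ z) [(fixS α).Normal] [Nontrivial (Q ⧸ fixS α)] :
    ∃ (α' ρ' : Q ⧸ fixS α →* Q ⧸ fixS α) (z' : K → Q ⧸ fixS α), Hyp l n α' ρ' z' ∧
      (∀ u : Q, α' u = (α u : Q)) ∧ (∀ u : Q, ρ' u = (ρ u : Q)) ∧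
      ∀ (u : Q) x, (u : Q ⧸ fixS α) = z' x ↔ u⁻¹ * α u = z x := by
  let α' : Q ⧸ fixS α →* Q ⧸ fixS α := QuotientGroup.map _ _ α (fun u hu => by
    rw [Subgroup.mem_comap, mem_fixS, h.αα]; exact hu.symm)
  let ρ' : Q ⧸ fixS α →* Q ⧸ fixS α := QuotientGroup.map _ _ ρ (fun u hu => by
    rw [Subgroup.mem_comap, mem_fixS, h.comm, show α u = u from hu])
  have hα : ∀ u : Q, α' u = (α u : Q) := fun u => rfl
  have hρ : ∀ u : Q, ρ' u = (ρ u : Q) := fun u => rfl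
  have hαα : ∀ u, α' (α' u) = u := fun u => by
    obtain ⟨u, rfl⟩ := QuotientGroup.mk_surjective u
    rw [hα, hα, h.αα]
  have hfix : ∀ u : Q, α' u = u ↔ ∃ x, u⁻¹ * α u = z x := fun u => by
    rw [hα, eq_comm, QuotientGroup.eq, h.mem]
  obtain ⟨w, hw1, -, hw⟩ := exists_fixed (h.p.to_quotient (fixS α)) α' hαα
  obtain ⟨w, rfl⟩ := QuotientGroup.mk_surjective w
  obtain ⟨t, ht⟩ := (hfix w).mp hw
  have hall : ∀ y, ∃ u : Q, u⁻¹ * α u = z y := h.all hF (fun v => ∃ u : Q, u⁻¹ * α u = v)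
    (by rintro _ ⟨u, rfl⟩; exact ⟨ρ u, by rw [map_mul, map_inv, h.comm]⟩) ⟨1, by simp⟩ (x := t)
    (fun h1 => hw1 ((QuotientGroup.eq_one_iff _).mpr (by
      rw [h1, inv_mul_eq_one] at ht; exact ht.symm))) ⟨w, ht⟩
  choose ζ hζ using hall
  have hα1 : ∀ u x, u⁻¹ * α u = z x → α u = u * z x := fun u x hu => by rw [← hu]; group
  have key : ∀ (u : Q) x, (u : Q ⧸ fixS α) = (ζ x : Q) ↔ u⁻¹ * α u = z x := by
    intro u x
    rw [QuotientGroup.eq, mem_fixS, map_mul, map_inv, hα1 _ _ (hζ x), ← mul_assoc,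
      Subgroup.mem_center_iff.mp (h.zc hF x), ← mul_assoc, mul_left_inj]
    constructor
    · intro e
      rw [← e]; group
    · intro e
      rw [← e]; group
  refine ⟨α', ρ', fun x => ζ x, ⟨h.p.to_quotient _, hαα, ?_, ?_, ?_, ?_, ?_, ?_, ?_⟩, hα, hρ, key⟩
  · intro u
    obtain ⟨u, rfl⟩ := QuotientGroup.mk_surjective u
    rw [hρ, hα, hα, hρ, h.comm]
  · intro u
    obtain ⟨u, rfl⟩ := QuotientGroup.mk_surjective u
    have : ∀ k, ρ'^[k] (u : Q ⧸ fixS α) = (ρ^[k] u : Q) := fun k => by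
      induction k with
      | zero => rfl
      | succ k ih => rw [Function.iterate_succ_apply', Function.iterate_succ_apply', ih, hρ]
    rw [this, h.ρpow, hρ]
  · intro u
    obtain ⟨u, rfl⟩ := QuotientGroup.mk_surjective u
    obtain ⟨u, rfl⟩ := h.ρsurj u
    exact ⟨u, rfl⟩
  · intro x y
    symm
    rw [← QuotientGroup.mk_mul, key, map_mul, hα1 _ _ (hζ x), hα1 _ _ (hζ y), h.zadd,
      ← mul_assoc (ζ x * z x), mul_assoc (ζ x), ← Subgroup.mem_center_iff.mp (h.zc hF x) (ζ y)]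
    group
  · intro x y e
    apply h.zinj
    rw [← (key _ _).mp e, hζ]
  · intro x
    rw [hρ, key, h.comm, ← map_inv, ← map_mul, hζ, h.zρ]
  · intro u
    obtain ⟨u, rfl⟩ := QuotientGroup.mk_surjective u
    simp only [hfix, key]

/-- the structure of the non-abelian examples -/
structure Str {Q : Type u} [Group Q] (l k b : K) (α ρ : Q →* Q) (z : K → Q) (px py : Q → K) :
    Prop where
  xmul : ∀ u v, px (u * v) = px u + px v
  ymul : ∀ u v, py (u * v) = py u + py v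
  surj : ∀ x y, ∃ u, px u = x ∧ py u = y
  ker : ∀ u, (px u = 0 ∧ py u = 0) ↔ ∃ t, u = z t
  xρ : ∀ u, px (ρ u) ^ 2 = l * px u ^ 2
  yρ : ∀ u, py (ρ u) ^ 2 = l * py u ^ 2
  xα : ∀ u, px (α u) = px u + py u
  yα : ∀ u, py (α u) = py u
  sq : ∀ u, u * u = z (k * (px u ^ 2 + px u * py u) + b * py u ^ 2)
  comm : ∀ u v, ⁅u, v⁆ = z (k * (px u * py v + py u * px v))
  ne : k ≠ 0

end hyp

section abelian
variable {A : Type u} [CommGroup A] [Finite A] {l : K} {n : ℕ} {α ρ : A →* A} {z : K → A}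

/-- `u ↦ u⁻¹ α(u)` -/
def dl (α : A →* A) : A →* A := MonoidHom.mk' (fun u => u⁻¹ * α u) (fun a b => by
  rw [map_mul, mul_inv, mul_mul_mul_comm])

theorem dl_apply (u : A) : dl α u = u⁻¹ * α u := rfl

theorem Hyp.dl_eq_one (h : Hyp l n α ρ z) (u : A) : dl α u = 1 ↔ ∃ x, u = z x := by
  rw [dl_apply, inv_mul_eq_one, eq_comm, h.fix]

theorem Hyp.dl_dl (h : Hyp l n α ρ z) (u : A) : dl α (dl α u) = ((dl α u)⁻¹) ^ 2 := by
  rw [dl_apply (dl α u), sq, dl_apply, map_mul, h.αα, map_inv, mul_inv, inv_inv, mul_comm (α u)⁻¹]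

theorem Hyp.dl_ρ (h : Hyp l n α ρ z) (u : A) : dl α (ρ u) = ρ (dl α u) := by
  rw [dl_apply, dl_apply, map_mul, map_inv, h.comm]

theorem Hyp.abelian (hF : Fld l n) (h : Hyp l n α ρ z) :
    (∃ f : A →* A, (∀ u, ∃ x, f u = z x) ∧ (∀ x, ∃ u, f u = z x) ∧ (∀ u, f (ρ u) = ρ (f u)) ∧
      ∀ u, f u = 1 → ∃ v, u = v ^ 2) ∨
    ((∀ u : A, u * u = 1) ∧ (∀ u, ∃ x, dl α u = z x) ∧ ∀ x, ∃ u, dl α u = z x) := by
  classical
  let D : Monoid.End A := dl α
  have hD : ∀ u, D u = dl α u := fun u => rfl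
  have hsucc : ∀ k u, (D ^ (k + 1)) u = dl α ((D ^ k) u) := fun k u => by rw [pow_succ']; rfl
  have hsucc' : ∀ k u, (D ^ (k + 1)) u = (D ^ k) (dl α u) := fun k u => by rw [pow_succ]; rfl
  have hnil : ∃ k, ∀ u, (D ^ (k + 1)) u = 1 := by
    haveI : Fact (Nat.Prime 2) := ⟨Nat.prime_two⟩
    obtain ⟨m, hm⟩ := IsPGroup.iff_card.mp h.p
    have : ∀ j u, (D ^ (j + 1)) u = (dl α u) ^ ((-2 : ℤ) ^ j) := by
      intro j u
      induction j with
      | zero => simp [hD]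
      | succ j ih =>
        rw [hsucc, ih, map_zpow, h.dl_dl, pow_succ' (-2 : ℤ), zpow_mul]
        congr 1
        rw [zpow_neg, inv_pow, zpow_ofNat]
    refine ⟨m, fun u => ?_⟩
    rw [this, show (-2 : ℤ) ^ m = (2 ^ m : ℕ) * (-1) ^ m by push_cast; rw [← mul_pow]; norm_num,
      zpow_mul, zpow_natCast, ← hm, pow_card_eq_one', one_zpow]
  have hDρ : ∀ k u, (D ^ k) (ρ u) = ρ ((D ^ k) u) := by
    intro k u
    induction k with
    | zero => rfl
    | succ k ih => rw [hsucc, hsucc, ih, h.dl_ρ]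
  obtain ⟨k, hk, hmin⟩ : ∃ k, (∀ u, (D ^ (k + 1)) u = 1) ∧ ∀ j < k, ¬ ∀ u, (D ^ (j + 1)) u = 1 :=
    ⟨Nat.find hnil, Nat.find_spec hnil, fun j hj => Nat.find_min hnil hj⟩
  have h1 : ∀ u, ∃ x, (D ^ k) u = z x := fun u => (h.dl_eq_one _).mp (by rw [← hsucc, hk])
  rcases k with _ | k
  · left
    exact ⟨MonoidHom.id A, h1, fun x => ⟨_, rfl⟩, fun u => rfl, fun u hu => ⟨1, by simpa using hu⟩⟩
  have h2 : ∀ x, ∃ u, (D ^ (k + 1)) u = z x := by
    have := hmin k (Nat.lt_succ_self k)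
    push Not at this
    obtain ⟨u, hu⟩ := this
    obtain ⟨x, hx⟩ := h1 u
    exact h.all hF (fun v => ∃ u, (D ^ (k + 1)) u = v) (by rintro _ ⟨u, rfl⟩; exact ⟨ρ u, hDρ _ _⟩)
      ⟨1, map_one _⟩ (x := x) (hx ▸ hu) ⟨u, hx⟩
  rcases k with _ | k
  · simp only [zero_add, pow_one, hD] at h1 h2
    by_cases hsq : ∀ u : A, u * u = 1
    · exact Or.inr ⟨hsq, h1, h2⟩
    left
    refine ⟨dl α, h1, h2, h.dl_ρ, fun u hu => ?_⟩
    push Not at hsq
    obtain ⟨v, hv⟩ := hsq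
    obtain ⟨t, ht⟩ := h1 v
    obtain ⟨x, hx⟩ := (h.dl_eq_one (v * v)).mp (by rw [map_mul, ht, h.zz hF])
    obtain ⟨y, rfl⟩ := (h.dl_eq_one u).mp hu
    exact h.all hF (fun u => ∃ v, u = v ^ 2) (by rintro _ ⟨u, rfl⟩; exact ⟨ρ u, map_pow _ _ _⟩)
      ⟨1, by simp⟩ (x := x) (hx ▸ hv) ⟨v, by rw [← hx, sq]⟩ y
  left
  let f : A →* A := (D ^ (k + 1 + 1) : Monoid.End A)
  refine ⟨f, h1, h2, hDρ _, fun u hu => ?_⟩
  have hr : f.range = (dl α).ker := by
    ext v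
    rw [MonoidHom.mem_ker, h.dl_eq_one]
    constructor
    · rintro ⟨w, rfl⟩; exact h1 w
    · rintro ⟨x, rfl⟩; exact h2 x
  have hker : (dl α).range = f.ker := by
    apply Subgroup.eq_of_le_of_card_ge
    · rintro _ ⟨v, rfl⟩
      exact (hsucc' _ v).symm.trans (hk v)
    · have e1 := Subgroup.card_eq_card_quotient_mul_card_subgroup f.ker
      have e2 := Subgroup.card_eq_card_quotient_mul_card_subgroup (dl α).ker
      rw [Nat.card_congr (QuotientGroup.quotientKerEquivRange _).toEquiv] at e1 e2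
      rw [hr, e2, mul_comm] at e1
      exact (Nat.eq_of_mul_eq_mul_left Nat.card_pos e1).ge
  obtain ⟨v, rfl⟩ : u ∈ (dl α).range := hker ▸ hu
  obtain ⟨x, hx⟩ := (h.fix (v * α v)).mp (by rw [map_mul, h.αα, mul_comm])
  obtain ⟨w, hw⟩ := h2 x
  rw [hsucc, hsucc, h.dl_dl, ← hx] at hw
  refine ⟨v⁻¹ * (dl α ((D ^ k) w))⁻¹, ?_⟩
  rw [mul_pow, hw, dl_apply, sq, mul_assoc, inv_mul_cancel_left]

theorem add_pow_two_pow {R : Type*} [Ring R] (h2 : (2 : R) = 0) {a b : R} (hab : Commute a b) (m : ℕ) :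
    (a + b) ^ 2 ^ m = a ^ 2 ^ m + b ^ 2 ^ m := by
  induction m with
  | zero => simp
  | succ m ih =>
    rw [pow_succ, pow_mul, pow_mul, pow_mul, ih, (hab.pow_pow _ _).add_sq, mul_assoc, h2, zero_mul,
      add_zero]

theorem Hyp.exists_section (hF : Fld l n) (h : Hyp l n α ρ z) (hsq : ∀ u : A, u * u = 1)
    (h1 : ∀ u, ∃ x, dl α u = z x) (h2 : ∀ x, ∃ u, dl α u = z x) :
    ∃ κ : K → A, (∀ x y, κ (x + y) = κ x * κ y) ∧ (∀ y, ρ (κ y) = κ (l * y)) ∧
      ∀ y, dl α (κ y) = z y := by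
  classical
  let Y : AddMonoid.End (Additive A) := MonoidHom.toAdditive ρ
  let D : AddMonoid.End (Additive A) := MonoidHom.toAdditive (dl α)
  let Z : K → Additive A := fun x => Additive.ofMul (z x)
  have Zadd : ∀ x y, Z (x + y) = Z x + Z y := h.zadd
  have Z0 : Z 0 = 0 := h.z0
  have hY : ∀ (k : ℕ) (v : A), (Y ^ k) (Additive.ofMul v) = Additive.ofMul (ρ^[k] v) := by
    intro k v
    induction k with
    | zero => rfl
    | succ k ih => rw [pow_succ', AddMonoid.End.coe_mul, Function.comp_apply, ih,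
        Function.iterate_succ_apply']; rfl
  have hYq : Y ^ 2 ^ n = Y := by
    ext v
    exact (hY _ (Additive.toMul v)).trans (h.ρpow _)
  have hYq' : ∀ i, (Y ^ i) ^ 2 ^ n = Y ^ i := fun i => by rw [← pow_mul, mul_comm, pow_mul, hYq]
  have hYZ : ∀ i x, (Y ^ i) (Z x) = Z (l ^ i * x) := by
    intro i x
    induction i with
    | zero => simp
    | succ i ih =>
      rw [pow_succ', AddMonoid.End.coe_mul, Function.comp_apply, ih, pow_succ', mul_assoc]
      exact h.zρ _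
  have hDY : Commute D Y := by ext v; exact h.dl_ρ _
  have two : (2 : AddMonoid.End (Additive A)) = 0 := by
    ext v
    rw [← one_add_one_eq_two]
    exact hsq _
  have kill : ∀ T : AddMonoid.End (Additive A), T ^ 2 ^ n = T → Commute D T → (∀ x, T (Z x) = 0) →
      T = 0 := by
    intro T hT hc hz
    have : T * T = 0 := by
      ext v
      obtain ⟨x, hx⟩ := h1 (Additive.toMul v)
      have e : D (T v) = 0 := by
        have := DFunLike.congr_fun hc.eq v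
        simp only [AddMonoid.End.coe_mul, Function.comp_apply] at this
        rw [this]; exact (congrArg T hx).trans (hz x)
      obtain ⟨y, hy⟩ := (h.dl_eq_one (Additive.toMul (T v))).mp e
      exact (congrArg T hy).trans (hz y)
    obtain ⟨m, hm⟩ := Nat.exists_eq_add_of_le' hF.pos
    rw [← hT, hm, pow_succ', pow_mul, sq, this, zero_pow (by positivity)]
  have hinv : ∀ a b : Additive A, a + b = 0 → a = b := fun a b hab => by
    have : b + b = 0 := hsq _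
    exact add_right_cancel (hab.trans this.symm)
  have w2 : ∀ i j, l ^ i = l ^ j → ∀ v, (Y ^ i) v = (Y ^ j) v := by
    intro i j hij v
    have := kill (Y ^ i + Y ^ j) (by
      rw [add_pow_two_pow two ((Commute.refl Y).pow_pow _ _), hYq', hYq'])
      ((hDY.pow_right _).add_right (hDY.pow_right _)) (fun x => by
        change (Y ^ i) (Z x) + (Y ^ j) (Z x) = 0
        rw [hYZ, hYZ, hij]; exact hsq _)
    exact hinv _ _ (DFunLike.congr_fun this v)
  have w3 : ∀ i j k, l ^ i + l ^ j = l ^ k → ∀ v, (Y ^ i) v + (Y ^ j) v = (Y ^ k) v := by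
    intro i j k hij v
    have := kill (Y ^ i + Y ^ j + Y ^ k) (by
      rw [add_pow_two_pow two (((Commute.refl Y).pow_pow _ _).add_left ((Commute.refl Y).pow_pow _ _)),
        add_pow_two_pow two ((Commute.refl Y).pow_pow _ _), hYq', hYq', hYq'])
      (((hDY.pow_right _).add_right (hDY.pow_right _)).add_right (hDY.pow_right _)) (fun x => by
        change (Y ^ i) (Z x) + (Y ^ j) (Z x) + (Y ^ k) (Z x) = 0
        rw [hYZ, hYZ, hYZ, ← Zadd, ← add_mul, hij]; exact hsq _)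
    exact hinv _ _ (DFunLike.congr_fun this v)
  obtain ⟨w, hw⟩ := h2 1
  choose e he using hF.gen
  let κ : K → Additive A := fun t => if ht : t = 0 then 0 else (Y ^ e t ht) (Additive.ofMul w)
  have κ0 : κ 0 = 0 := dif_pos rfl
  have κp : ∀ i, l ^ i ≠ 0 → κ (l ^ i) = (Y ^ i) (Additive.ofMul w) := fun i hi =>
    (dif_neg hi).trans (w2 _ _ (he _ hi).symm _)
  have κadd : ∀ x y, κ (x + y) = κ x + κ y := by
    intro x y
    by_cases hx : x = 0
    · rw [hx, κ0, zero_add, zero_add]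
    by_cases hy : y = 0
    · rw [hy, κ0, add_zero, add_zero]
    by_cases hxy : x + y = 0
    · have : x = y := by linear_combination hxy - y * hF.two
      rw [hxy, κ0, this]; exact (hsq _).symm
    simp only [κ, dif_neg hx, dif_neg hy, dif_neg hxy]
    exact (w3 _ _ _ (by rw [← he, ← he, ← he]) _).symm
  have hl : l ≠ 0 := by
    intro hl
    haveI : Finite K := Finite.of_injective z h.zinj
    have hi : Function.Injective ρ := Finite.injective_iff_surjective.mpr h.ρsurj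
    have := h.zρ 1
    rw [hl, zero_mul, h.z0, ← map_one ρ] at this
    exact one_ne_zero (h.zinj ((hi this).trans h.z0.symm))
  refine ⟨fun t => Additive.toMul (κ t), κadd, fun y => ?_, fun y => ?_⟩
  · change Y (κ y) = κ (l * y)
    by_cases hy : y = 0
    · rw [hy, mul_zero, κ0, map_zero]
    rw [he y hy, ← pow_succ', κp _ (pow_ne_zero _ hl), κp _ (pow_ne_zero _ hl), pow_succ']
    rfl
  · change D (κ y) = Z y
    by_cases hy : y = 0
    · rw [hy, κ0, map_zero, Z0]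
    have := DFunLike.congr_fun (hDY.pow_right (e y hy)).eq (Additive.ofMul w)
    simp only [AddMonoid.End.coe_mul, Function.comp_apply] at this
    simp only [κ, dif_neg hy]
    rw [this, show D (Additive.ofMul w) = Z 1 from hw, hYZ, mul_one, ← he]

end abelian

section step
variable {Q : Type u} [Group Q] [Finite Q] [Finite K] {l : K} {n : ℕ} {α ρ : Q →* Q} {z : K → Q}

theorem sq_mul_of_comm {a b : Q} (h : ⁅b, a⁆ ∈ Subgroup.center Q) :
    a * b * (a * b) = a * a * (b * b) * ⁅b, a⁆ := by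
  have := Subgroup.mem_center_iff.mp h (a * (b * b))
  calc a * b * (a * b) = a * (⁅b, a⁆ * (a * (b * b))) * b⁻¹ * b * b⁻¹ * b := by
        simp only [commutatorElement_def]; group
    _ = _ := by rw [← this]; group

theorem Hyp.of_quot_comm (hF : Fld l n) (h : Hyp l n α ρ z) [(fixS α).Normal]
    [Nontrivial (Q ⧸ fixS α)] (hc : ∀ a b : Q ⧸ fixS α, a * b = b * a) :
    (∀ a b : Q, a * b = b * a) ∨ ∃ k b px py, Str l k b α ρ z px py := by
  obtain ⟨α', ρ', z', h', hα, hρ, -⟩ := h.quot hF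
  letI : CommGroup (Q ⧸ fixS α) := { (inferInstance : Group (Q ⧸ fixS α)) with mul_comm := hc }
  have hcz : ∀ a b : Q, ∃ t, ⁅a, b⁆ = z t := fun a b => h.mem.mp (by
    rw [← QuotientGroup.eq_one_iff]
    change QuotientGroup.mk' (fixS α) ⁅a, b⁆ = 1
    rw [map_commutatorElement, commutatorElement_eq_one_iff_mul_comm, hc])
  have hcc : ∀ a b : Q, ⁅a, b⁆ ∈ Subgroup.center Q := fun a b => by
    obtain ⟨t, ht⟩ := hcz a b
    rw [ht]; exact h.zc hF t
  have hc1 : ∀ a b : Q, (a : Q ⧸ fixS α) = 1 → ⁅a, b⁆ = 1 := fun a b ha => by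
    rw [commutatorElement_eq_one_iff_mul_comm]
    exact (Subgroup.mem_center_iff.mp (h.le_center hF ((QuotientGroup.eq_one_iff _).mp ha)) b).symm
  rcases h'.abelian hF with ⟨f, f1, f2, f3, f4⟩ | ⟨hsq, d1, d2⟩
  · left
    have key := hua_alt hF.two hF.gen ρ z h.zadd h.zinj (h.zc hF) h.zρ
      (fun u x => f (u : Q ⧸ fixS α) = z' x)
      (fun x => by
        obtain ⟨u, hu⟩ := f2 x
        obtain ⟨u, rfl⟩ := QuotientGroup.mk_surjective u
        exact ⟨u, hu⟩)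
      (fun m m' x x' e e' => by rw [QuotientGroup.mk_mul, map_mul, e, e', h'.zadd])
      (fun m x e => by rw [← hρ, f3, e, h'.zρ]) (fun m m' _ _ _ _ => hcz m m')
      (fun m m' y e _ => by
        rw [h'.z0] at e
        obtain ⟨v, hv⟩ := f4 _ e
        obtain ⟨v, rfl⟩ := QuotientGroup.mk_surjective v
        have e1 := hc1 ((v * v)⁻¹ * m) m' (by
          rw [QuotientGroup.mk_mul, hv, QuotientGroup.mk_inv, QuotientGroup.mk_mul, sq, inv_mul_cancel])
        obtain ⟨t, ht⟩ := hcz v m'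
        rw [← mul_inv_cancel_left (v * v) m, comm_mul_left (hcc _ _), e1, comm_mul_left (hcc _ _), ht,
          h.zz hF, one_mul])
    intro a b
    obtain ⟨x, hx⟩ := f1 a
    obtain ⟨y, hy⟩ := f1 b
    exact commutatorElement_eq_one_iff_mul_comm.mp (key a b x y hx hy)
  obtain ⟨κ, κadd, κρ, κd⟩ := h'.exists_section hF hsq d1 d2
  have κ0 : κ 0 = 1 := by
    have := κadd 0 0; rw [add_zero] at this; exact mul_eq_left.mp this.symm
  have dz : ∀ x, dl α' (z' x) = 1 := fun x => (h'.dl_eq_one _).mpr ⟨x, rfl⟩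
  have hsqi : ∀ x y : K, x ^ 2 = y ^ 2 → x = y := fun x y e => by
    have : (x - y) ^ 2 = 0 := by linear_combination e + (y ^ 2 - x * y) * hF.two
    exact sub_eq_zero.mp (pow_eq_zero_iff two_ne_zero |>.mp this)
  have hsqa : ∀ x y : K, (x + y) ^ 2 = x ^ 2 + y ^ 2 := fun x y => by
    linear_combination x * y * hF.two
  have uniq : ∀ x y x' y', z' x * κ y = z' x' * κ y' → x = x' ∧ y = y' := by
    intro x y x' y' e
    have e1 := congrArg (dl α') e
    rw [map_mul, map_mul, dz, dz, κd, κd, one_mul, one_mul] at e1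
    have e2 := h'.zinj e1
    subst e2
    exact ⟨h'.zinj (mul_right_cancel e), rfl⟩
  have ex : ∀ u : Q, ∃ x y, (u : Q ⧸ fixS α) = z' (x ^ 2) * κ (y ^ 2) := by
    intro u
    obtain ⟨y, hy⟩ := d1 u
    obtain ⟨x, hx⟩ := (h'.dl_eq_one (u * (κ y)⁻¹)).mp (by rw [map_mul, map_inv, hy, κd, mul_inv_cancel])
    obtain ⟨x, rfl⟩ := exists_sq hF.two x
    obtain ⟨y, rfl⟩ := exists_sq hF.two y
    exact ⟨x, y, by rw [← hx, inv_mul_cancel_right]⟩
  choose px py hp using ex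
  have spec : ∀ (u : Q) x y, (u : Q ⧸ fixS α) = z' (x ^ 2) * κ (y ^ 2) → px u = x ∧ py u = y := by
    intro u x y e
    obtain ⟨e1, e2⟩ := uniq _ _ _ _ ((hp u).symm.trans e)
    exact ⟨hsqi _ _ e1, hsqi _ _ e2⟩
  have hmul : ∀ u v, px (u * v) = px u + px v ∧ py (u * v) = py u + py v := fun u v =>
    spec _ _ _ (by rw [QuotientGroup.mk_mul, hp, hp, hsqa, hsqa, h'.zadd, κadd, mul_mul_mul_comm])
  have hsurj : ∀ x y, ∃ u, px u = x ∧ py u = y := fun x y => by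
    obtain ⟨u, hu⟩ := QuotientGroup.mk_surjective (z' (x ^ 2) * κ (y ^ 2))
    exact ⟨u, spec _ _ _ hu⟩
  have hker : ∀ u, (px u = 0 ∧ py u = 0) ↔ (u : Q ⧸ fixS α) = 1 := fun u =>
    ⟨fun e => by rw [hp, e.1, e.2]; simp [h'.z0, κ0], fun e => spec _ _ _ (by simp [e, h'.z0, κ0])⟩
  have hpρ : ∀ u, px (ρ u) ^ 2 = l * px u ^ 2 ∧ py (ρ u) ^ 2 = l * py u ^ 2 := fun u =>
    uniq _ _ _ _ (by rw [← hp, ← hρ, hp, map_mul, h'.zρ, κρ])
  have hpα : ∀ u, px (α u) = px u + py u ∧ py (α u) = py u := fun u => spec _ _ _ (by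
    have e := κd (py u ^ 2)
    rw [dl_apply, inv_mul_eq_iff_eq_mul] at e
    rw [← hα, hp, map_mul, h'.αz, e, hsqa, h'.zadd, mul_assoc, mul_comm (κ _)])
  let PX : Q → K → Prop := fun u x => py u = 0 ∧ px u ^ 2 = x
  let PY : Q → K → Prop := fun u x => px u = 0 ∧ py u ^ 2 = x
  have z2 : ∀ x : K, x ^ 2 = 0 → x = 0 := fun x e => (pow_eq_zero_iff two_ne_zero).mp e
  have X1 : ∀ x, ∃ u, PX u x := fun x => by
    obtain ⟨x, rfl⟩ := exists_sq hF.two x
    obtain ⟨u, e1, e2⟩ := hsurj x 0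
    exact ⟨u, e2, by rw [e1]⟩
  have Y1 : ∀ x, ∃ u, PY u x := fun x => by
    obtain ⟨x, rfl⟩ := exists_sq hF.two x
    obtain ⟨u, e1, e2⟩ := hsurj 0 x
    exact ⟨u, e1, by rw [e2]⟩
  have X2 : ∀ m m' x x', PX m x → PX m' x' → PX (m * m') (x + x') := fun m m' x x' e e' =>
    ⟨by rw [(hmul _ _).2, e.1, e'.1, add_zero], by rw [(hmul _ _).1, hsqa, e.2, e'.2]⟩
  have Y2 : ∀ m m' x x', PY m x → PY m' x' → PY (m * m') (x + x') := fun m m' x x' e e' =>
    ⟨by rw [(hmul _ _).1, e.1, e'.1, add_zero], by rw [(hmul _ _).2, hsqa, e.2, e'.2]⟩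
  have X3 : ∀ m x, PX m x → PX (ρ m) (l * x) := fun m x e =>
    ⟨z2 _ (by rw [(hpρ m).2, e.1]; simp), by rw [(hpρ m).1, e.2]⟩
  have Y3 : ∀ m x, PY m x → PY (ρ m) (l * x) := fun m x e =>
    ⟨z2 _ (by rw [(hpρ m).1, e.1]; simp), by rw [(hpρ m).2, e.2]⟩
  have X4 : ∀ m v : Q, PX m 0 → ⁅m, v⁆ = 1 := fun m v e => hc1 _ _ ((hker m).mp ⟨z2 _ e.2, e.1⟩)
  have Y4 : ∀ m v : Q, PY m 0 → ⁅m, v⁆ = 1 := fun m v e => hc1 _ _ ((hker m).mp ⟨e.1, z2 _ e.2⟩)
  have hXX := hua_alt hF.two hF.gen ρ z h.zadd h.zinj (h.zc hF) h.zρ PX X1 X2 X3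
    (fun m m' _ _ _ _ => hcz m m') (fun m m' _ e _ => X4 m m' e)
  have hYY := hua_alt hF.two hF.gen ρ z h.zadd h.zinj (h.zc hF) h.zρ PY Y1 Y2 Y3
    (fun m m' _ _ _ _ => hcz m m') (fun m m' _ e _ => Y4 m m' e)
  obtain ⟨k, hXY⟩ := hua_comm hF.two hF.gen ρ z h.zadd h.zinj (h.zc hF) h.zρ PX PY X1 Y1 X2 Y2 X3 Y3
    (fun m m' _ _ _ _ => hcz m m') (fun m m' _ e _ => X4 m m' e)
    (fun m m' _ _ e => by rw [← commutatorElement_inv, Y4 m' m e, inv_one])
  have zinv : ∀ t, (z t)⁻¹ = z t := fun t => inv_eq_of_mul_eq_one_right (h.zz hF t)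
  have dec : ∀ u, ∃ m v, u = m * v ∧ PX m (px u ^ 2) ∧ PY v (py u ^ 2) := by
    intro u
    obtain ⟨m, e1, e2⟩ := hsurj (px u) 0
    have := hmul m (m⁻¹ * u)
    rw [mul_inv_cancel_left, e1, e2, zero_add] at this
    exact ⟨m, m⁻¹ * u, by group, ⟨e2, by rw [e1]⟩, ⟨left_eq_add.mp this.1, by rw [← this.2]⟩⟩
  have hcomm : ∀ u v, ⁅u, v⁆ = z (k * (px u * py v + py u * px v)) := by
    intro u v
    obtain ⟨m, w, e, e1, e2⟩ := dec u
    obtain ⟨m', w', e', e1', e2'⟩ := dec v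
    have : ⁅m * w, m' * w'⁆ = z (k * (px u * py v + py u * px v)) := by
      rw [comm_mul_left (hcc _ _), comm_mul_right (hcc _ _), comm_mul_right (hcc _ _),
        hXX _ _ _ _ e1 e1', hYY _ _ _ _ e2 e2', hXY _ _ _ _ e1 e2', ← commutatorElement_inv,
        hXY _ _ _ _ e1' e2, zinv, mul_one, one_mul, ← h.zadd]
      congr 1; ring
    rw [← this, ← e, ← e']
  by_cases hk : k = 0
  · left
    intro a b
    rw [← commutatorElement_eq_one_iff_mul_comm, hcomm, hk, zero_mul, h.z0]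
  right
  have hsz : ∀ u : Q, ∃ t, u * u = z t := fun u => h.mem.mp (by
    rw [← QuotientGroup.eq_one_iff, QuotientGroup.mk_mul, hsq])
  -- squaring is linear on the two axes
  have lin : ∀ P : Q → K → Prop, (∀ x, ∃ u, P u x) →
      (∀ m m' x x', P m x → P m' x' → P (m * m') (x + x')) → (∀ m x, P m x → P (ρ m) (l * x)) →
      (∀ m, P m 0 → ∃ t, m = z t) → (∀ m m' x x', P m x → P m' x' → ⁅m, m'⁆ = 1) →
      ∃ a, ∀ m x, P m x → m * m = z (a * x) := by
    intro P p1 p2 p3 p4 p5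
    choose pm hpm using p1
    choose s hs using hsz
    have wd : ∀ m m' x, P m x → P m' x → m * m = m' * m' := by
      intro m m' x e e'
      have e1 := p2 _ _ _ _ e e'
      rw [show x + x = 0 by linear_combination x * hF.two] at e1
      obtain ⟨t, ht⟩ := p4 _ e1
      have e2 := sq_mul_of_comm (hcc m' m)
      rw [p5 _ _ _ _ e' e, mul_one, ht, h.zz hF, hs, hs, ← h.zadd, ← h.z0] at e2
      rw [hs, hs]; congr 1
      linear_combination - h.zinj e2 - s m' * hF.two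
    have e3 : ∀ x, s (pm (l * x)) = l * s (pm x) := fun x => h.zinj (by
      rw [← hs, ← wd _ _ _ (p3 _ _ (hpm x)) (hpm _), ← map_mul, hs, h.zρ])
    have e0 : s (pm 0) = 0 := h.zinj (by
      obtain ⟨t, ht⟩ := p4 _ (hpm 0)
      rw [← hs, ht, h.zz hF, h.z0])
    refine ⟨s (pm 1), fun m x e => ?_⟩
    have := homog hF.gen (fun x _ => s (pm x)) e0 (fun x _ => e3 x) x 1 1
    simp only [mul_one] at this
    rw [wd _ _ _ e (hpm x), hs, this, mul_comm]
  obtain ⟨a, ha⟩ := lin PX X1 X2 X3 (fun m e => h.mem.mp ((QuotientGroup.eq_one_iff _).mp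
    ((hker m).mp ⟨z2 _ e.2, e.1⟩))) hXX
  obtain ⟨b, hb⟩ := lin PY Y1 Y2 Y3 (fun m e => h.mem.mp ((QuotientGroup.eq_one_iff _).mp
    ((hker m).mp ⟨e.1, z2 _ e.2⟩))) hYY
  have hs : ∀ u, u * u = z (a * px u ^ 2 + k * (px u * py u) + b * py u ^ 2) := by
    intro u
    obtain ⟨m, w, e, e1, e2⟩ := dec u
    have : m * w * (m * w) = z (a * px u ^ 2 + k * (px u * py u) + b * py u ^ 2) := by
      rw [sq_mul_of_comm (hcc _ _), ha _ _ e1, hb _ _ e2, ← commutatorElement_inv, hXY _ _ _ _ e1 e2,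
        zinv, ← h.zadd, ← h.zadd]
      congr 1; ring
    rw [← this, ← e]
  have hak : a = k := by
    obtain ⟨u, e1, e2⟩ := hsurj 0 1
    have e3 := hs (α u)
    rw [← map_mul, hs u, h.αz, (hpα u).1, (hpα u).2, e1, e2] at e3
    linear_combination - h.zinj e3 - k * hF.two
  refine ⟨k, b, px, py, fun u v => (hmul u v).1, fun u v => (hmul u v).2, hsurj,
    fun u => ?_, fun u => (hpρ u).1, fun u => (hpρ u).2, fun u => (hpα u).1, fun u => (hpα u).2,
    fun u => ?_, hcomm, hk⟩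
  · rw [hker, QuotientGroup.eq_one_iff, h.mem]
  · rw [hs, hak]; congr 1; ring

theorem Hyp.axis_central (hF : Fld l n) (h : Hyp l n α ρ z) {s : K} (hs0 : s ≠ 0) (hs1 : s ≠ 1)
    {B : Type*} [Group B] (f : Q →* B) (hf : ∀ u, f u = 1 → ∃ t, u = z t) (z' : K → B)
    (z'add : ∀ x y, z' (x + y) = z' x * z' y) (z'sur : ∀ x, ∃ u, f u = z' x)
    (z'ρ : ∀ u x, f u = z' x → f (ρ u) = z' (l * x)) {k : K} (hk : k ≠ 0) (px py : Q → K)
    (xmul : ∀ u v, px (u * v) = px u + px v) (ymul : ∀ u v, py (u * v) = py u + py v)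
    (surj : ∀ x y, ∃ u, px u = x ∧ py u = y) (ker : ∀ u, (px u = 0 ∧ py u = 0) ↔ ∃ t, f u = z' t)
    (xρ : ∀ u, px (ρ u) ^ 2 = l * px u ^ 2) (yρ : ∀ u, py (ρ u) ^ 2 = l * py u ^ 2)
    (comm : ∀ u v, f ⁅u, v⁆ = z' (k * (px u * py v + py u * px v))) :
    ∀ (c m : Q) t, f c = z' t → py m = 0 → ⁅c, m⁆ = 1 := by
  have z'0 : z' 0 = 1 := by
    have := z'add 0 0; rw [add_zero] at this; exact mul_eq_left.mp this.symm
  have z2 : ∀ x : K, x ^ 2 = 0 → x = 0 := fun x e => (pow_eq_zero_iff two_ne_zero).mp e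
  have hsqa : ∀ x y : K, (x + y) ^ 2 = x ^ 2 + y ^ 2 := fun x y => by
    linear_combination x * y * hF.two
  have c1 : ∀ c u t, f c = z' t → ∃ r, ⁅c, u⁆ = z r := by
    intro c u t e
    obtain ⟨e1, e2⟩ := (ker c).mpr ⟨t, e⟩
    exact hf _ (by rw [comm, e1, e2]; simp [z'0])
  have c0 : ∀ c u : Q, f c = z' 0 → ⁅c, u⁆ = 1 := by
    intro c u e
    obtain ⟨t, rfl⟩ := hf c (e.trans z'0)
    exact commutatorElement_eq_one_iff_mul_comm.mpr (Subgroup.mem_center_iff.mp (h.zc hF t) u).symm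
  have P2 : ∀ m m' x x', f m = z' x → f m' = z' x' → f (m * m') = z' (x + x') :=
    fun m m' x x' e e' => by rw [map_mul, e, e', z'add]
  have h11 := hua_alt hF.two hF.gen ρ z h.zadd h.zinj (h.zc hF) h.zρ (fun u x => f u = z' x) z'sur
    P2 z'ρ (fun m m' x _ e _ => c1 m m' x e) (fun m m' _ e _ => c0 m m' e)
  let PX : Q → K → Prop := fun u x => py u = 0 ∧ px u ^ 2 = x
  obtain ⟨k1, hk1⟩ := hua_comm hF.two hF.gen ρ z h.zadd h.zinj (h.zc hF) h.zρ (fun u x => f u = z' x)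
    PX z'sur (fun x => by
      obtain ⟨x, rfl⟩ := exists_sq hF.two x
      obtain ⟨u, e1, e2⟩ := surj x 0
      exact ⟨u, e2, by rw [e1]⟩) P2
    (fun m m' x x' e e' => ⟨by rw [ymul, e.1, e'.1, add_zero], by rw [xmul, hsqa, e.2, e'.2]⟩) z'ρ
    (fun m x e => ⟨z2 _ (by rw [yρ, e.1]; simp), by rw [xρ, e.2]⟩)
    (fun m m' x _ e _ => c1 m m' x e) (fun m m' _ e _ => c0 m m' e)
    (fun m m' x e e' => by
      obtain ⟨t, ht⟩ := (ker m').mp ⟨z2 _ e'.2, e'.1⟩
      exact h11 _ _ _ _ e ht)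
  have hk10 : k1 = 0 := by
    obtain ⟨m, m1, m2⟩ := surj 1 0
    obtain ⟨m', m1', m2'⟩ := surj (s ^ 2) 0
    obtain ⟨v, v1, v2⟩ := surj 0 k⁻¹
    have d1 : f ⁅v, m⁆ = z' (1 ^ 2) := by
      rw [comm, m1, m2, v1, v2]; congr 1; field_simp; ring
    have d2 : f ⁅v, m'⁆ = z' (s ^ 2) := by
      rw [comm, m1', m2', v1, v2]; congr 1; field_simp; ring
    obtain ⟨e, he⟩ := hf ⁅m, m'⁆ (by rw [comm, m2, m2']; simp [z'0])
    have e1 := hk1 _ m' _ _ d1 ⟨m2', by rw [m1']⟩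
    have e2 := hk1 _ m _ _ d2 ⟨m2, by rw [m1]⟩
    have e3 := h11 _ _ _ _ d1 d2
    have e4 : ⁅⁅v, m⁆ * m, ⁅v, m'⁆ * m'⁆ = ⁅m, m'⁆ := by
      have : ⁅⁅v, m⁆ * m, ⁅v, m'⁆ * m'⁆ = v * ⁅m, m'⁆ * v⁻¹ := by
        simp only [commutatorElement_def]; group
      rw [this, he, Subgroup.mem_center_iff.mp (h.zc hF e), mul_inv_cancel_right]
    have e5 : ⁅m, ⁅v, m'⁆⁆ = z (k1 * s * 1) := by
      rw [← commutatorElement_inv, e2]; exact inv_eq_of_mul_eq_one_right (h.zz hF _)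
    have e6 : ⁅m, ⁅v, m'⁆ * m'⁆ = z (k1 * s * 1 + e) := by
      rw [comm_mul_right (by rw [he]; exact h.zc hF _), e5, he, h.zadd]
    rw [comm_mul_left (by rw [e6]; exact h.zc hF _), e6,
      comm_mul_right (by rw [e1]; exact h.zc hF _), e3, e1, one_mul, he, ← h.zadd] at e4
    have e7 := h.zinj e4
    have : k1 * (s * (s - 1)) = 0 := by linear_combination e7 - k1 * s * hF.two
    exact (mul_eq_zero.mp this).resolve_right (mul_ne_zero hs0 (sub_ne_zero.mpr hs1))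
  intro c m t e hm
  obtain ⟨t, rfl⟩ := exists_sq hF.two t
  rw [hk1 c m t (px m) e ⟨hm, rfl⟩, hk10, zero_mul, zero_mul, h.z0]

theorem Hyp.not_quot_str (hF : Fld l n) (h : Hyp l n α ρ z) {s : K} (hs0 : s ≠ 0) (hs1 : s ≠ 1)
    [(fixS α).Normal] {α' ρ' : Q ⧸ fixS α →* Q ⧸ fixS α} {z' : K → Q ⧸ fixS α} (h' : Hyp l n α' ρ' z')
    (hα : ∀ u : Q, α' u = (α u : Q)) (hρ : ∀ u : Q, ρ' u = (ρ u : Q)) {k b : K}
    {px py : Q ⧸ fixS α → K} (S : Str l k b α' ρ' z' px py) : False := by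
  let f := QuotientGroup.mk' (fixS α)
  have hf : ∀ u, f u = 1 → ∃ t, u = z t := fun u hu => h.mem.mp ((QuotientGroup.eq_one_iff _).mp hu)
  have fs : Function.Surjective f := QuotientGroup.mk_surjective
  have fρ : ∀ u, f (ρ u) = ρ' (f u) := fun u => (hρ u).symm
  have fα : ∀ u, f (α u) = α' (f u) := fun u => (hα u).symm
  have surj : ∀ x y, ∃ u, px (f u) = x ∧ py (f u) = y := fun x y => by
    obtain ⟨u, hu⟩ := S.surj x y
    obtain ⟨u, rfl⟩ := fs u
    exact ⟨u, hu⟩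
  have xmul : ∀ u v, px (f (u * v)) = px (f u) + px (f v) := fun u v => by rw [map_mul, S.xmul]
  have ymul : ∀ u v, py (f (u * v)) = py (f u) + py (f v) := fun u v => by rw [map_mul, S.ymul]
  have cX := h.axis_central hF hs0 hs1 f hf z' h'.zadd (fun x => fs _)
    (fun u x e => by rw [fρ, e, h'.zρ]) S.ne (fun u => px (f u)) (fun u => py (f u)) xmul ymul surj
    (fun u => S.ker _) (fun u => by rw [fρ, S.xρ]) (fun u => by rw [fρ, S.yρ])
    (fun u v => by rw [map_commutatorElement, S.comm])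
  have cY := h.axis_central hF hs0 hs1 f hf z' h'.zadd (fun x => fs _)
    (fun u x e => by rw [fρ, e, h'.zρ]) S.ne (fun u => py (f u)) (fun u => px (f u)) ymul xmul
    (fun x y => by obtain ⟨u, e1, e2⟩ := surj y x; exact ⟨u, e2, e1⟩)
    (fun u => by rw [and_comm]; exact S.ker _) (fun u => by rw [fρ, S.yρ]) (fun u => by rw [fρ, S.xρ])
    (fun u v => by rw [map_commutatorElement, S.comm, add_comm])
  have z2 : ∀ x : K, x ^ 2 = 0 → x = 0 := fun x e => (pow_eq_zero_iff two_ne_zero).mp e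
  have hsqa : ∀ x y : K, (x + y) ^ 2 = x ^ 2 + y ^ 2 := fun x y => by
    linear_combination x * y * hF.two
  have hXX := hua_alt hF.two hF.gen ρ z h.zadd h.zinj (h.zc hF) h.zρ
    (fun u x => py (f u) = 0 ∧ px (f u) ^ 2 = x) (fun x => by
      obtain ⟨x, rfl⟩ := exists_sq hF.two x
      obtain ⟨u, e1, e2⟩ := surj x 0
      exact ⟨u, e2, by rw [e1]⟩)
    (fun m m' x x' e e' => ⟨by rw [ymul, e.1, e'.1, add_zero], by rw [xmul, hsqa, e.2, e'.2]⟩)
    (fun m x e => ⟨z2 _ (by rw [fρ, S.yρ, e.1]; simp), by rw [fρ, S.xρ, e.2]⟩)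
    (fun m m' x _ e e' => hf _ (by rw [map_commutatorElement, S.comm, e.1, e'.1]; simp [h'.z0]))
    (fun m m' _ e e' => by
      obtain ⟨t, ht⟩ := (S.ker (f m)).mp ⟨z2 _ e.2, e.1⟩
      exact cX m m' t ht e'.1)
  obtain ⟨m, m1, m2⟩ := surj 1 0
  obtain ⟨v, v1, v2⟩ := surj 0 1
  have a1 := xmul m (m⁻¹ * α m)
  have a2 := ymul m (m⁻¹ * α m)
  have a3 := ymul v (v⁻¹ * α v)
  rw [mul_inv_cancel_left, fα] at a1 a2 a3
  rw [S.xα, m2, add_zero, left_eq_add] at a1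
  rw [S.yα, left_eq_add] at a2 a3
  obtain ⟨t, ht⟩ := (S.ker _).mp ⟨a1, a2⟩
  have b1 := commutatorElement_eq_one_iff_mul_comm.mp (cX _ _ t ht a3)
  have b2 := commutatorElement_eq_one_iff_mul_comm.mp (cY _ _ t ht v1)
  have b3 := commutatorElement_eq_one_iff_mul_comm.mp (hXX m _ _ _ ⟨m2, rfl⟩ ⟨a3, rfl⟩)
  have : α ⁅m, v⁆ = ⁅m, v⁆ := by
    rw [map_commutatorElement, ← mul_inv_cancel_left m (α m), ← mul_inv_cancel_left v (α v)]
    generalize m⁻¹ * α m = c at b1 b2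
    generalize v⁻¹ * α v = w at b1 b3
    have e1 : c * (v * w) * c⁻¹ = v * w := by rw [← mul_assoc, b2, mul_assoc v, b1]; group
    have e2 : w * m⁻¹ * w⁻¹ = m⁻¹ := by
      rw [mul_assoc, ← mul_inv_rev, ← b3]; group
    calc ⁅m * c, v * w⁆ = m * (c * (v * w) * c⁻¹) * m⁻¹ * (v * w)⁻¹ := by
          simp only [commutatorElement_def]; group
      _ = m * v * (w * m⁻¹ * w⁻¹) * v⁻¹ := by rw [e1]; group
      _ = _ := by rw [e2, commutatorElement_def]
  have e1 : f ⁅m, v⁆ = 1 := (QuotientGroup.eq_one_iff _).mpr this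
  rw [map_commutatorElement, S.comm, m1, m2, v1, v2, ← h'.z0] at e1
  exact S.ne (by simpa using h'.zinj e1)

end step

theorem Hyp.main [Finite K] {l : K} {n : ℕ} (hF : Fld l n) {s : K} (hs0 : s ≠ 0) (hs1 : s ≠ 1) (N : ℕ) :
    ∀ {Q : Type u} [Group Q] [Finite Q] {α ρ : Q →* Q} {z : K → Q}, Nat.card Q ≤ N →
      Hyp l n α ρ z → (∀ a b : Q, a * b = b * a) ∨ ∃ k b px py, Str l k b α ρ z px py := by
  induction N with
  | zero => intro Q _ _ _ _ _ hN; have := Nat.card_pos (α := Q); omega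
  | succ N ih =>
    intro Q _ _ α ρ z hN h
    haveI := h.normal hF
    rcases subsingleton_or_nontrivial (Q ⧸ fixS α) with hs | hs
    · left
      intro a b
      exact Subgroup.mem_center_iff.mp
        (h.le_center hF ((QuotientGroup.eq_one_iff b).mp (Subsingleton.elim _ _))) a
    obtain ⟨α', ρ', z', h', hα, hρ, -⟩ := h.quot hF
    have hlt : Nat.card (Q ⧸ fixS α) ≤ N := by
      have e := Subgroup.card_eq_card_quotient_mul_card_subgroup (fixS α)
      have : 1 < Nat.card (fixS α) := (Subgroup.one_lt_card_iff_ne_bot _).mpr (fun hb => by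
        have : z 1 ∈ fixS α := h.αz 1
        rw [hb, Subgroup.mem_bot, ← h.z0] at this
        exact one_ne_zero (h.zinj this))
      have := Nat.card_pos (α := Q ⧸ fixS α)
      nlinarith
    rcases ih hlt h' with hc | ⟨k, b, px, py, S⟩
    · exact h.of_quot_comm hF hc
    · exact (h.not_quot_str hF hs0 hs1 h' hα hρ S).elim

theorem Str.ext {Q : Type u} [Group Q] [Finite Q] {l : K} {n : ℕ} (hF : Fld l n) {α ρ : Q →* Q} {z : K → Q}
    (h : Hyp l n α ρ z) {k b : K} {px py : Q → K} (S : Str l k b α ρ z px py) :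
    Squares.Ext (fun p : K × K => p.1 ^ 2 + p.1 * p.2 + b / k * p.2 ^ 2) (fun u => (px u, py u))
      (fun t => z (k * t)) where
  πmul u v := Prod.ext (S.xmul u v) (S.ymul u v)
  πsurj p := by
    obtain ⟨u, e1, e2⟩ := S.surj p.1 p.2
    exact ⟨u, Prod.ext e1 e2⟩
  zadd x y := by rw [mul_add, h.zadd]
  zinj x y e := mul_left_cancel₀ S.ne (h.zinj e)
  zc x u := Subgroup.mem_center_iff.mp (h.zc hF _) u
  ker u := by
    rw [Prod.mk_eq_zero, S.ker]
    have := S.ne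
    exact ⟨fun ⟨t, ht⟩ => ⟨t / k, by rw [ht]; congr 1; field_simp⟩, fun ⟨t, ht⟩ => ⟨_, ht⟩⟩
  sq u := by
    have := S.ne
    rw [S.sq]; congr 1; field_simp

end Cfsg.Agent.H1.SingInv
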